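import Groth.Agent.Lib.AlgSpMor.RelNorm.Loc

/-!
# Relative normalisation stable under smooth base change
-/

set_option autoImplicit false
set_option linter.style.haveILetI false

universe u

open CategoryTheory CategoryTheory.Limits AlgebraicGeometry Opposite
open Groth.Agent.Lib.AlgSpace

namespace Groth.Agent.Lib.AlgSpMor.RelNorm

open AlgSp (Sp yon Representable RepWith IsAlgSpace LocP IsIntegralMor IsRelNormalization)

variable {S : Scheme.{u}} {X Y X' : Sp S} {f : Y ⟶ X} {ν : X' ⟶ X} {f' : Y ⟶ X'}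

attribute [local simp] pullback.lift_fst pullback.lift_snd pullback.lift_fst_assoc
  pullback.lift_snd_assoc

theorem locP_smooth_of_etale {F G : Sp S} {ξ : F ⟶ G} (h : RepWith @Etale ξ) :
    LocP @Smooth ξ :=
  LocP.locP_of_repWith SourceDescent.Scheme.smooth
    (repWith_mono h fun _ _ g (_ : Etale g) => (inferInstance : Smooth g))

theorem locP_smooth_yon_map {U V : Over S} (k : U ⟶ V) (h : Smooth k.left) :
    LocP @Smooth ((yon S).map k) :=
  LocP.locP_of_repWith SourceDescent.Scheme.smooth ((AlgSp.repWith_yon_map_iff _ k).2 h)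

theorem smooth_of_locP_yon_map {U V : Over S} (k : U ⟶ V) (h : LocP @Smooth ((yon S).map k)) :
    Smooth k.left :=
  (AlgSp.repWith_yon_map_iff _ k).1 (LocP.repWith_of_locP SourceDescent.Scheme.smooth
    (IsAlgSpace.yon_obj V) (representable_from_yon (IsAlgSpace.yon_obj V).diag _) h)

theorem repWith_etale_comp {U V : Over S} {F : Sp S} {ξ : (yon S).obj V ⟶ F}
    (hξ : RepWith @Etale ξ) (k : U ⟶ V) (hk : Etale k.left) :
    RepWith @Etale ((yon S).map k ≫ ξ) :=
  haveI := hk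
  LocP.repWith_etale_comp k hξ

/-- The relative normalisation, with universal property stable under smooth base change. -/
structure Str (f : Y ⟶ X) (ν : X' ⟶ X) (f' : Y ⟶ X') : Prop where
  fac : f' ≫ ν = f
  integral : IsIntegralMor ν
  univ : ∀ ⦃T : Over S⦄, IsAffine T.left → ∀ (ξ : (yon S).obj T ⟶ X), LocP @Smooth ξ →
    UnivAt f ν f' ξ

theorem Str.good (h : Str f ν f') {T : Over S} (hT : IsAffine T.left) {ξ : (yon S).obj T ⟶ X}
    (hξ : RepWith @Etale ξ) : Good f ν f' ξ :=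
  ⟨hT, hξ, fun _ hT' k hk => h.univ hT' _ (locP_smooth_of_etale (repWith_etale_comp hξ k hk))⟩

/-- Every point lies on an affine etale chart. -/
theorem exists_affine_chart (hX : IsAlgSpace X) (x : AlgSp.Points X) :
    ∃ (T : Over S) (ξ : (yon S).obj T ⟶ X), IsAffine T.left ∧ RepWith @Etale ξ ∧
      x ∈ Set.range (AlgSp.Points.ofPt ξ) := by
  obtain ⟨U, p, hp, hps⟩ := hX.atlas
  obtain ⟨t, rfl⟩ := surjective_ofPt hps x
  obtain ⟨O, hO, ht, -⟩ := exists_isAffineOpen_mem_and_subset (U := ⊤) (Set.mem_univ t)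
  exact ⟨Topo.opensOver O, (yon S).map (Topo.opensOverι O) ≫ p, hO,
    repWith_etale_comp hp (Topo.opensOverι O) (inferInstanceAs (Etale O.ι)), ⟨t, ht⟩,
    (ofPt_yon_map_comp (Topo.opensOverι O) p _).trans rfl⟩

theorem Str.isRelNormalization (h : Str f ν f') (hX : IsAlgSpace X) :
    IsRelNormalization f ν f' :=
  isRelNormalization_of_good hX h.fac h.integral fun x => by
    obtain ⟨T, ξ, hT, hξ, hx⟩ := exists_affine_chart hX x
    exact ⟨T, ξ, h.good hT hξ, hx⟩

theorem Str.baseChange (h : Str f ν f') (hX : IsAlgSpace X) {T : Sp S} (hT : IsAlgSpace T)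
    {ξ : T ⟶ X} (hξ : LocP @Smooth ξ) {P N : Sp S} {a : P ⟶ Y} {p : P ⟶ T}
    (sqP : IsPullback a p f ξ) {b : N ⟶ X'} {n : N ⟶ T} (sqN : IsPullback b n ν ξ) {j : P ⟶ N}
    (hj1 : j ≫ b = a ≫ f') (hj2 : j ≫ n = p) : Str p n j :=
  ⟨hj2, isIntegralMor_baseChange sqN h.integral, fun T' hT' k hk =>
    (univAt_baseChange_iff sqP sqN hj1 hj2 k).2
      (h.univ hT' _ (LocP.locP_comp SourceDescent.Scheme.smooth (IsAlgSpace.yon_obj T') hT hX hk hξ))⟩

theorem Str.baseChange' (h : Str f ν f') (hX : IsAlgSpace X) {T : Sp S} (hT : IsAlgSpace T)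
    {ξ : T ⟶ X} (hξ : LocP @Smooth ξ) :
    Str (pullback.snd f ξ) (pullback.snd ν ξ)
      (pullback.lift (pullback.fst f ξ ≫ f') (pullback.snd f ξ)
        (by rw [Category.assoc, h.fac, pullback.condition])) :=
  h.baseChange hX hT hξ (IsPullback.of_hasPullback f ξ) (IsPullback.of_hasPullback ν ξ)
    (pullback.lift_fst _ _ _) (pullback.lift_snd _ _ _)

/-- Being the smooth-stable normalisation is etale local on the target. -/
theorem Str.of_cover (hX : IsAlgSpace X) (hfac : f' ≫ ν = f) (hν : IsIntegralMor ν)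
    (hcov : ∀ x : AlgSp.Points X, ∃ (V : Over S) (b : (yon S).obj V ⟶ X),
      RepWith @Etale b ∧ x ∈ Set.range (AlgSp.Points.ofPt b) ∧
        Str (pullback.snd f b) (pullback.snd ν b)
          (pullback.lift (pullback.fst f b ≫ f') (pullback.snd f b)
            (by rw [Category.assoc, hfac, pullback.condition]))) :
    Str f ν f' := by
  refine ⟨hfac, hν, fun T hT ξ hξ => ?_⟩
  have sqP := IsPullback.of_hasPullback f ξ
  have sqN := IsPullback.of_hasPullback ν ξ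
  let j := pullback.lift (pullback.fst f ξ ≫ f') (pullback.snd f ξ)
    (by rw [Category.assoc, hfac, pullback.condition] : (pullback.fst f ξ ≫ f') ≫ ν = _)
  have hj1 : j ≫ pullback.fst ν ξ = pullback.fst f ξ ≫ f' := pullback.lift_fst _ _ _
  have hj2 : j ≫ pullback.snd ν ξ = pullback.snd f ξ := pullback.lift_snd _ _ _
  have h0 := univAt_baseChange_iff sqP sqN hj1 hj2 (𝟙 _)
  rw [Category.id_comp] at h0
  refine h0.1 (univAt_id_of_isRelNormalization (isRelNormalization_of_good (IsAlgSpace.yon_obj T)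
    hj2 (isIntegralMor_baseChange sqN hν) fun x => ?_))
  obtain ⟨t, rfl⟩ : ∃ t, AlgSp.Points.ofScheme T t = x :=
    ⟨AlgSp.Points.toScheme T x, AlgSp.Points.ofScheme_toScheme T x⟩
  obtain ⟨V, b, hb, ⟨v, hv⟩, hV⟩ := hcov (AlgSp.Points.ofPt ξ t)
  obtain ⟨R, r₁, r₂, sqR⟩ := exists_isPullback_yon hX.diag ξ b
  haveI : Etale r₁.left := repWith_property hb sqR.flip
  haveI : Smooth r₂.left := repWith_property (LocP.repWith_of_locP SourceDescent.Scheme.smooth hX
    (representable_from_yon hX.diag ξ) hξ) sqR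
  obtain ⟨r, hr, -⟩ := (ofPt_eq_ofPt_iff_of_isPullback sqR t v).1 hv.symm
  obtain ⟨O, hO, hrO, -⟩ := exists_isAffineOpen_mem_and_subset (U := ⊤) (Set.mem_univ r)
  let ι : Topo.opensOver O ⟶ R := Topo.opensOverι O
  refine ⟨Topo.opensOver O, (yon S).map (ι ≫ r₁), ⟨hO, (AlgSp.repWith_yon_map_iff _ _).2 ?_,
    fun T' hT' k hk => ?_⟩, ⟨r, hrO⟩, ?_⟩
  · rw [Over.comp_left]
    exact inferInstanceAs (Etale (O.ι ≫ r₁.left))
  · rw [univAt_baseChange_iff sqP sqN hj1 hj2]
    have e : ((yon S).map k ≫ (yon S).map (ι ≫ r₁)) ≫ ξ = (yon S).map (k ≫ ι ≫ r₂) ≫ b := by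
      simp only [Functor.map_comp, Category.assoc, sqR.w]
    rw [e, ← univAt_baseChange_iff (IsPullback.of_hasPullback f b) (IsPullback.of_hasPullback ν b)
      (pullback.lift_fst _ _ _) (pullback.lift_snd _ _ _)]
    refine hV.univ hT' _ (locP_smooth_yon_map _ ?_)
    haveI : Smooth k.left := inferInstance
    haveI : Smooth ι.left := inferInstanceAs (Smooth O.ι)
    simp only [Over.comp_left]
    exact inferInstanceAs (Smooth (k.left ≫ ι.left ≫ r₂.left))
  · refine ((congrArg (fun m => AlgSp.Points.ofPt m _) (Category.comp_id ((yon S).map (ι ≫ r₁))).symm).trans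
      ((ofPt_yon_map_comp (ι ≫ r₁) (𝟙 _) _).trans ?_))
    exact congrArg _ hr

theorem exists_iso_of_isRelNormalization {X'' : Sp S} {ν' : X'' ⟶ X} {f'' : Y ⟶ X''}
    (hX' : IsAlgSpace X') (hX'' : IsAlgSpace X'') (h : IsRelNormalization f ν f')
    (h' : IsRelNormalization f ν' f'') :
    ∃ e : X' ≅ X'', f' ≫ e.hom = f'' ∧ e.hom ≫ ν' = ν := by
  obtain ⟨u, ⟨hu1, hu2⟩, -⟩ := h.2.2 hX'' ν' f'' h'.2.1 h'.1
  obtain ⟨v, ⟨hv1, hv2⟩, -⟩ := h'.2.2 hX' ν f' h.2.1 h.1
  exact ⟨⟨u, v, (h.2.2 hX' ν f' h.2.1 h.1).unique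
      ⟨by rw [reassoc_of% hu1, hv1], by rw [Category.assoc, hv2, hu2]⟩ ⟨by simp, by simp⟩,
    (h'.2.2 hX'' ν' f'' h'.2.1 h'.1).unique
      ⟨by rw [reassoc_of% hv1, hu1], by rw [Category.assoc, hu2, hv2]⟩ ⟨by simp, by simp⟩⟩, hu1, hu2⟩

theorem Str.of_iso (h : Str f ν f') {X'' : Sp S} {ν' : X'' ⟶ X} {f'' : Y ⟶ X''} (e : X' ≅ X'')
    (h1 : f' ≫ e.hom = f'') (h2 : e.hom ≫ ν' = ν) : Str f ν' f'' := by
  have sq : IsPullback e.inv ν' ν (𝟙 X) := IsPullback.of_horiz_isIso ⟨by simp [← h2]⟩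
  refine ⟨by rw [← h1, Category.assoc, h2, h.fac], isIntegralMor_baseChange sq h.integral,
    fun T hT ξ hξ P N Z a p sqP b n sqN j hj1 hj2 hZ π g hπ hg => ?_⟩
  refine h.univ hT ξ hξ a p sqP (b ≫ e.inv) n
    (sqN.of_iso (Iso.refl _) e.symm (Iso.refl _) (Iso.refl _) (by simp) (by simp) (by simp [← h2])
      (by simp)) j ?_ hj2 hZ π g hπ hg
  rw [reassoc_of% hj1, ← h1]
  simp

end Groth.Agent.Lib.AlgSpMor.RelNorm
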