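import Groth.Agent.Lib.AlgSpMor.RelNorm.Main
import Groth.Agent.Lib.AlgSpMor.LqfRep
import Groth.Agent.Lib.AlgSpMor.QC
import Groth.Agent.Lib.AlgSpMor.RepBySp
import Groth.Agent.Lib.AlgSpace.DescendRep

/-!
# The normalisation in a separated quasi-finite space: open immersion
-/

set_option autoImplicit false
set_option linter.style.haveILetI false

universe u

open CategoryTheory CategoryTheory.Limits AlgebraicGeometry Opposite
open Groth.Agent.Lib.AlgSpace

namespace Groth.Agent.Lib.AlgSpMor.RelNorm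

open AlgSp (Sp yon Representable RepWith IsAlgSpace LocP IsIntegralMor IsRelNormalization)

variable {S : Scheme.{u}}

theorem isOpenImmersion_of_str_affine {W T N : Over S} [IsAffine T.left] {m : W ⟶ T}
    [LocallyQuasiFinite m.left] [LocallyOfFiniteType m.left] [IsSeparated m.left]
    [QuasiCompact m.left] {ν : N ⟶ T} [IsIntegralHom ν.left] {a : W ⟶ N}
    (h : Str ((yon S).map m) ((yon S).map ν) ((yon S).map a)) : IsOpenImmersion a.left := by
  let N₁ : Over S := Over.mk (m.left.fromNormalization ≫ T.hom)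
  let ν₁ : N₁ ⟶ T := Over.homMk m.left.fromNormalization rfl
  let a₁ : W ⟶ N₁ := Over.homMk m.left.toNormalization (by simp [N₁])
  have hν₁ : IsIntegralMor ((yon S).map ν₁) := AffineDescent.isIntegralMor_iff.2
    ((AlgSp.repWith_yon_map_iff _ ν₁).2 (inferInstanceAs (IsIntegralHom m.left.fromNormalization)))
  have ha₁ : (yon S).map a₁ ≫ (yon S).map ν₁ = (yon S).map m := by
    rw [← Functor.map_comp]
    exact congrArg _ (Over.OverMorphism.ext (by simp [a₁, ν₁]))
  have hfac : a ≫ ν = m := (yon S).map_injective (by rw [Functor.map_comp]; exact h.fac)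
  have hn := h.isRelNormalization (IsAlgSpace.yon_obj T)
  obtain ⟨u₀, ⟨u1, u2⟩, -⟩ := hn.2.2 (IsAlgSpace.yon_obj N₁) ((yon S).map ν₁) ((yon S).map a₁) hν₁ ha₁
  obtain ⟨u, rfl⟩ := (yon S).map_surjective u₀
  have u1' : a ≫ u = a₁ := (yon S).map_injective (by rw [Functor.map_comp]; exact u1)
  have u2' : u ≫ ν₁ = ν := (yon S).map_injective (by rw [Functor.map_comp]; exact u2)
  obtain ⟨k, k1, k2⟩ := (Sch.schNorm_normalization m.left).desc ν.left a.left
    (congrArg Over.Hom.left hfac)
  let k' : N₁ ⟶ N := Over.homMk k (by rw [← Over.w ν, reassoc_of% k2]; rfl)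
  have k1' : a₁ ≫ k' = a := Over.OverMorphism.ext k1
  have k2' : k' ≫ ν = ν₁ := Over.OverMorphism.ext k2
  obtain ⟨_, -, huq⟩ := hn.2.2 (IsAlgSpace.yon_obj N) ((yon S).map ν) ((yon S).map a) hn.2.1 hn.1
  have e1 : u ≫ k' = 𝟙 N := (yon S).map_injective ((huq _ ⟨?_, ?_⟩).trans
    (huq _ ⟨?_, ?_⟩).symm)
  · have e2 : k ≫ u.left = 𝟙 m.left.normalization :=
      (Sch.schNorm_normalization m.left).ext m.left.fromNormalization _ _
        (by rw [Category.assoc, show u.left ≫ m.left.fromNormalization = ν.left from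
          congrArg Over.Hom.left u2', k2])
        (Category.id_comp _)
        (by rw [reassoc_of% k1, Category.comp_id]; exact congrArg Over.Hom.left u1')
    haveI : IsIso k := ⟨u.left, e2, congrArg Over.Hom.left e1⟩
    rw [← k1]
    infer_instance
  · rw [← Functor.map_comp, reassoc_of% u1', k1']
  · rw [← Functor.map_comp, Category.assoc, k2', u2']
  · rw [← Functor.map_comp, Category.comp_id]
  · rw [← Functor.map_comp, Category.id_comp]

theorem isOpenImmersion_of_str {W U N : Over S} {m : W ⟶ U}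
    [LocallyQuasiFinite m.left] [LocallyOfFiniteType m.left] [IsSeparated m.left]
    [QuasiCompact m.left] {ν : N ⟶ U} [IsIntegralHom ν.left] {a : W ⟶ N}
    (h : Str ((yon S).map m) ((yon S).map ν) ((yon S).map a)) : IsOpenImmersion a.left := by
  have hfac : a ≫ ν = m := (yon S).map_injective (by rw [Functor.map_comp]; exact h.fac)
  refine IsZariskiLocalAtTarget.of_openCover (P := @IsOpenImmersion)
    (U.left.affineCover.pullback₁ ν.left) fun i => ?_
  let O : Over S := Over.mk (U.left.affineCover.f i ≫ U.hom)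
  let ι : O ⟶ U := Over.homMk (U.left.affineCover.f i) rfl
  haveI : IsAffine O.left := inferInstanceAs (IsAffine (U.left.affineCover.X i))
  haveI : IsOpenImmersion ι.left := inferInstanceAs (IsOpenImmersion (U.left.affineCover.f i))
  let WO := Limits.pullback m ι
  let NO := Limits.pullback ν ι
  let w₁ : WO ⟶ W := Limits.pullback.fst m ι
  let w₂ : WO ⟶ O := Limits.pullback.snd m ι
  let n₁ : NO ⟶ N := Limits.pullback.fst ν ι
  let n₂ : NO ⟶ O := Limits.pullback.snd ν ι
  have sqW : IsPullback w₁ w₂ m ι := IsPullback.of_hasPullback m ι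
  have sqN : IsPullback n₁ n₂ ν ι := IsPullback.of_hasPullback ν ι
  let j : WO ⟶ NO := sqN.lift (w₁ ≫ a) w₂ (by rw [Category.assoc, hfac, sqW.w])
  have hj1 : j ≫ n₁ = w₁ ≫ a := sqN.lift_fst _ _ _
  have hj2 : j ≫ n₂ = w₂ := sqN.lift_snd _ _ _
  have hstr : Str ((yon S).map w₂) ((yon S).map n₂) ((yon S).map j) :=
    h.baseChange (IsAlgSpace.yon_obj U) (IsAlgSpace.yon_obj O)
      (locP_smooth_yon_map ι inferInstance) (isPullback_yon sqW) (isPullback_yon sqN)
      (by rw [← Functor.map_comp, ← Functor.map_comp, hj1])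
      (by rw [← Functor.map_comp, hj2])
  have sqW' := sqW.map (Over.forget S)
  have sqN' := sqN.map (Over.forget S)
  haveI : LocallyQuasiFinite w₂.left :=
    MorphismProperty.of_isPullback (P := @LocallyQuasiFinite.{u}) sqW' ‹_›
  haveI : LocallyOfFiniteType w₂.left :=
    MorphismProperty.of_isPullback (P := @LocallyOfFiniteType.{u}) sqW' ‹_›
  haveI : IsSeparated w₂.left := MorphismProperty.of_isPullback (P := @IsSeparated.{u}) sqW' ‹_›
  haveI : QuasiCompact w₂.left := MorphismProperty.of_isPullback (P := @QuasiCompact.{u}) sqW' ‹_›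
  haveI : IsIntegralHom n₂.left :=
    MorphismProperty.of_isPullback (P := @IsIntegralHom.{u}) sqN' ‹_›
  have hji := isOpenImmersion_of_str_affine hstr
  have sqj : IsPullback w₁ j a n₁ := IsPullback.of_bot (by rw [hfac, hj2]; exact sqW) hj1.symm sqN
  have sqj' := sqj.map (Over.forget S)
  let e := sqN'.isoPullback
  have sqP : IsPullback w₁.left (j.left ≫ e.hom) a.left
      (pullback.fst ν.left ι.left) :=
    sqj'.of_iso (Iso.refl _) (Iso.refl _) e (Iso.refl _) (by simp) (by simp) (by simp)
      (by simp [e])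
  show IsOpenImmersion (pullback.snd a.left (pullback.fst ν.left ι.left))
  refine (congrArg (fun z => IsOpenImmersion z) ((IsPullback.of_hasPullback a.left
    (pullback.fst ν.left ι.left)).isoIsPullback_hom_snd _ _ sqP)).mp ?_
  exact (MorphismProperty.cancel_left_of_respectsIso @IsOpenImmersion _ _).2
    ((MorphismProperty.cancel_right_of_respectsIso @IsOpenImmersion _ _).2 hji)

variable {X Y Y' : Sp S}

theorem openImmersion_of_isRelNormalization (hX : IsAlgSpace X) (hY : IsAlgSpace Y)
    (hY' : IsAlgSpace Y') {f : X ⟶ Y} {ν : Y' ⟶ Y} {f' : X ⟶ Y'}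
    (hqf : LocP (@LocallyQuasiFinite ⊓ @LocallyOfFiniteType) f)
    (hqc : AlgSp.IsQuasiCompactMor f) (hsep : AlgSp.IsSeparatedMor f)
    (hn : IsRelNormalization f ν f') :
    RepWith @IsOpenImmersion f' ∧ AlgSp.IsQuasiCompactMor f' ∧ AlgSp.IsQuasiAffineMor f := by
  have hrep : Representable f := LqfRep.representable hX hY hqf hsep
  have hqcR : RepWith @QuasiCompact f := (QC.repWith_quasiCompact_iff hrep).2 hqc
  have hsepR : ∀ {W U : Over S} {ξ : (yon S).obj U ⟶ Y} {c : (yon S).obj W ⟶ X} {m : W ⟶ U},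
      IsPullback c ((yon S).map m) f ξ → IsSeparated m.left := fun {W U ξ c m} sq =>
    (AlgSp.isSeparatedMor_yon_map_iff m).1 (Sep.repWith_diagonal_baseChange sq hsep)
  have hqs : AlgSp.IsQuasiSeparatedMor f := repWith_mono hsep fun _ _ g (_ : IsClosedImmersion g) =>
    (inferInstance : QuasiCompact g)
  have hstr := str_of_isRelNormalization hY hX hqc hqs hY' hn
  have hν : RepWith @IsIntegralHom ν := AffineDescent.isIntegralMor_iff.1 hn.2.1
  obtain ⟨U, p, hp, hps⟩ := hY.atlas
  obtain ⟨N, νU, q, sqN, hνU⟩ := repWith_exists hν p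
  obtain ⟨W, m, c, sqW⟩ := hrep p
  haveI := hνU
  haveI : QuasiCompact m.left := repWith_property hqcR sqW
  haveI : IsSeparated m.left := hsepR sqW
  have hm : (@LocallyQuasiFinite ⊓ @LocallyOfFiniteType : MorphismProperty Scheme.{u}) m.left :=
    hqf c p m (repWith_baseChange sqW.flip hp) hp sqW.w
  haveI : LocallyQuasiFinite m.left := hm.1
  haveI : LocallyOfFiniteType m.left := hm.2
  obtain ⟨a, ha⟩ := (yon S).map_surjective
    (sqN.lift (c ≫ f') ((yon S).map m) (by rw [Category.assoc, hn.1, sqW.w]))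
  have ha1 : (yon S).map a ≫ q = c ≫ f' := by rw [ha]; exact sqN.lift_fst _ _ _
  have ha2 : (yon S).map a ≫ (yon S).map νU = (yon S).map m := by rw [ha]; exact sqN.lift_snd _ _ _
  have hS : Str ((yon S).map m) ((yon S).map νU) ((yon S).map a) :=
    hstr.baseChange hY (IsAlgSpace.yon_obj U) (locP_smooth_of_etale hp) sqW sqN ha1 ha2
  haveI hai : IsOpenImmersion a.left := isOpenImmersion_of_str hS
  have sqa : IsPullback c ((yon S).map a) f' q :=
    IsPullback.of_bot (by rw [ha2, hn.1]; exact sqW) ha1.symm sqN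
  have hq : RepWith @Etale q := repWith_baseChange sqN.flip hp
  have hqs' : RepWith @Surjective q := repWith_baseChange sqN.flip hps
  haveI := isLocallySurjective_of_etale hq hqs'
  have hoi : RepWith @IsOpenImmersion f' :=
    repWith_isOpenImmersion_of_isLocallySurjective q sqa ((AlgSp.repWith_yon_map_iff _ a).2 hai)
  haveI : QuasiCompact (a.left ≫ νU.left) := by
    rw [← Over.comp_left, (yon S).map_injective (show (yon S).map (a ≫ νU) = (yon S).map m by
      rw [Functor.map_comp]; exact ha2)]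
    infer_instance
  haveI : QuasiCompact a.left := QuasiCompact.of_comp a.left νU.left
  haveI := RepBySp.descendsAlong_fppf (@QuasiCompact : MorphismProperty Scheme.{u}) inferInstance
    inferInstance
  haveI : MorphismProperty.IsLocalAtTarget (@QuasiCompact : MorphismProperty Scheme.{u})
      Scheme.fppfPrecoverage := isLocalAtTarget_fppf _
  have hqc' : RepWith @QuasiCompact f' :=
    repWith_of_isLocallySurjective hoi.rep q sqa _ ((AlgSp.repWith_yon_map_iff _ a).2 ‹_›)
  refine ⟨hoi, QC.isQuasiCompactMor_of_repWith hqc', fun Z hZ g => ?_⟩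
  haveI := hZ
  obtain ⟨NZ, νZ, qZ, sqNZ, hνZ⟩ := repWith_exists hν g
  obtain ⟨WZ, aZ, cZ, sqaZ, haZ⟩ := repWith_exists hoi qZ
  haveI := hνZ
  haveI := haZ
  haveI : QuasiCompact aZ.left := repWith_property hqc' sqaZ
  haveI : IsAffine NZ.left := isAffine_of_isAffineHom νZ.left
  haveI : CompactSpace ↥WZ.left := QuasiCompact.compactSpace_of_compactSpace aZ.left
  refine ⟨WZ, aZ ≫ νZ, cZ, ?_, Scheme.IsQuasiAffine.of_isImmersion aZ.left⟩
  have := sqaZ.paste_vert sqNZ
  rwa [hn.1, ← Functor.map_comp] at this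

end Groth.Agent.Lib.AlgSpMor.RelNorm
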