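import Groth.Agent.Lib.AlgSpMor.RelNorm.Sch
import Groth.Agent.Lib.AlgSpMor.RelNorm.Str
import Groth.Agent.Lib.AlgSpMor.Sep
import Groth.Agent.Lib.AlgSpMor.Perm

/-!
# Relative normalisation of an affine scheme in an algebraic space
-/

set_option autoImplicit false
set_option linter.style.haveILetI false

universe u

open CategoryTheory CategoryTheory.Limits AlgebraicGeometry Opposite
open Groth.Agent.Lib.AlgSpace

namespace Groth.Agent.Lib.AlgSpMor.RelNorm

open AlgSp (Sp yon Representable RepWith IsAlgSpace LocP IsIntegralMor IsRelNormalization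
  IsQuasiCompactMor IsQuasiSeparatedMor)

variable {S : Scheme.{u}}

theorem exists_atlas_data {P : Sp S} (hP : IsAlgSpace P) {T : Over S} [IsAffine T.left]
    {p : P ⟶ (yon S).obj T} (hqc : IsQuasiCompactMor p) (hqs : IsQuasiSeparatedMor p) :
    ∃ (W R : Over S) (c : (yon S).obj W ⟶ P) (m : W ⟶ T) (n : R ⟶ T) (s t : R ⟶ W),
      QuasiCompact m.left ∧ QuasiSeparated m.left ∧ QuasiCompact n.left ∧ QuasiSeparated n.left ∧
      RepWith @Etale c ∧ RepWith @Surjective c ∧ c ≫ p = (yon S).map m ∧ s ≫ m = n ∧ t ≫ m = n ∧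
        IsPullback ((yon S).map s) ((yon S).map t) c c := by
  haveI : CompactSpace (AlgSp.Points P) :=
    QC.compactSpace_of_isQuasiCompactMor hqc (Z := T) (IsPullback.of_id_fst (f := p))
  obtain ⟨W, c, hW, hc, hcs⟩ := QC.exists_affine_atlas hP
  haveI := hW
  obtain ⟨m, hm⟩ := (yon S).map_surjective (c ≫ p)
  let Q := Limits.pullback m m
  let q₁ : Q ⟶ W := Limits.pullback.fst m m
  let q₂ : Q ⟶ W := Limits.pullback.snd m m
  have sqQ : IsPullback q₁ q₂ m m := IsPullback.of_hasPullback m m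
  have sqQ' := (sqQ.map (Over.forget S))
  haveI : IsAffineHom m.left := isAffineHom_of_isAffine _
  haveI : IsAffine Q.left :=
    IsAffine.of_isPullback (X := W.left) (Y := W.left) (Z := T.left) (g := m.left) sqQ'
  have w : ((yon S).map q₁ ≫ c) ≫ p = ((yon S).map q₂ ≫ c) ≫ p := by
    rw [Category.assoc, Category.assoc, ← hm, ← Functor.map_comp, ← Functor.map_comp, sqQ.w]
  obtain ⟨d1, -, -, d4, -⟩ := Sep.diagonal_props p hP
  have hd : RepWith (@QuasiCompact ⊓ @IsSeparated) (pullback.diagonal p) :=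
    repWith_inf_iff.2 ⟨hqs, d4⟩
  obtain ⟨R, v, e, sqR, hv⟩ := repWith_exists hd (pullback.lift _ _ w)
  haveI : QuasiCompact v.left := hv.1
  haveI : IsSeparated v.left := hv.2
  haveI : CompactSpace ↥R.left := QuasiCompact.compactSpace_of_compactSpace v.left
  refine ⟨W, R, c, m, v ≫ q₁ ≫ m, v ≫ q₁, v ≫ q₂, inferInstance, inferInstance, ?_, ?_, hc, hcs,
    hm.symm, by rw [Category.assoc], by rw [Category.assoc, sqQ.w], ?_⟩
  · exact inferInstance
  · rw [Over.comp_left]
    haveI : QuasiSeparated (q₁ ≫ m).left := inferInstance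
    infer_instance
  refine isPullback_of_yon ?_ (fun A x y h1 h2 => ?_) (fun A x y h => ?_)
  · have h1 := congrArg (fun k => k ≫ pullback.fst p p) sqR.w
    have h2 := congrArg (fun k => k ≫ pullback.snd p p) sqR.w
    simp only [Category.assoc, pullback.diagonal_fst, pullback.diagonal_snd, Category.comp_id,
      pullback.lift_fst, pullback.lift_snd] at h1 h2
    rw [Functor.map_comp, Functor.map_comp, Category.assoc, Category.assoc, ← h1, ← h2]
  · simp only [Functor.map_comp, ← Category.assoc] at h1 h2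
    have h12 : x ≫ (yon S).map v = y ≫ (yon S).map v :=
      (isPullback_yon sqQ).hom_ext h1 h2
    refine sqR.hom_ext ?_ h12
    have e1 : e = (yon S).map v ≫ (yon S).map q₁ ≫ c := by
      simpa [pullback.lift_fst] using congrArg (fun k => k ≫ pullback.fst p p) sqR.w
    rw [e1, reassoc_of% h12]
  · have hxy : x ≫ (yon S).map m = y ≫ (yon S).map m := by rw [hm, reassoc_of% h]
    let z := (isPullback_yon sqQ).lift x y hxy
    have hz1 : z ≫ (yon S).map q₁ = x := (isPullback_yon sqQ).lift_fst _ _ _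
    have hz2 : z ≫ (yon S).map q₂ = y := (isPullback_yon sqQ).lift_snd _ _ _
    refine ⟨sqR.lift (x ≫ c) z ?_, ?_, ?_⟩
    · apply pullback.hom_ext
      · simp [pullback.lift_fst, reassoc_of% hz1]
      · simp [pullback.lift_snd, reassoc_of% hz2, h]
    · rw [Functor.map_comp, sqR.lift_snd_assoc, hz1]
    · rw [Functor.map_comp, sqR.lift_snd_assoc, hz2]

/-- An integral morphism to a scheme is a morphism of schemes. -/
theorem exists_scheme_of_isIntegralMor {Z : Sp S} {T : Over S} {π : Z ⟶ (yon S).obj T}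
    (hπ : IsIntegralMor π) :
    ∃ (B : Over S) (r : B ⟶ T) (e : (yon S).obj B ≅ Z),
      e.hom ≫ π = (yon S).map r ∧ IsIntegralHom r.left := by
  rw [AffineDescent.isIntegralMor_iff] at hπ
  obtain ⟨B, r, e, sq, hr⟩ := repWith_exists hπ (𝟙 _)
  haveI : IsIso e := sq.isIso_fst_of_isIso
  exact ⟨B, r, asIso e, by simpa using sq.w, hr⟩

/-- The relative normalisation of an affine scheme in an algebraic space exists. -/
theorem exists_str_affine {P : Sp S} (hP : IsAlgSpace P) {T : Over S} [IsAffine T.left]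
    {p : P ⟶ (yon S).obj T} (hqc : IsQuasiCompactMor p) (hqs : IsQuasiSeparatedMor p) :
    ∃ (N : Over S) (ν : N ⟶ T) (g : P ⟶ (yon S).obj N),
      IsIntegralHom ν.left ∧ Str p ((yon S).map ν) g := by
  obtain ⟨W, R, c, m, n, s, t, hmc, hms, hnc, hns, hc, hcs, hm, hs, ht, sq⟩ :=
    exists_atlas_data hP hqc hqs
  haveI := hmc; haveI := hms; haveI := hnc; haveI := hns
  have hs' : s.left ≫ m.left = n.left := by rw [← Over.comp_left, hs]
  have ht' : t.left ≫ m.left = n.left := by rw [← Over.comp_left, ht]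
  obtain ⟨N₀, w₀, ν₀, hN, hν, hw, hst, huniv⟩ :=
    Sch.exists_invariant_norm m.left n.left s.left t.left hs' ht'
  let N : Over S := Over.mk (ν₀ ≫ T.hom)
  let ν : N ⟶ T := Over.homMk ν₀ rfl
  let w : W ⟶ N := Over.homMk w₀ (by
    change w₀ ≫ ν₀ ≫ T.hom = W.hom
    rw [reassoc_of% hw, Over.w])
  have hwν : w ≫ ν = m := Over.OverMorphism.ext hw
  have hsw : s ≫ w = t ≫ w := Over.OverMorphism.ext hst
  haveI := isLocallySurjective_of_etale hc hcs
  obtain ⟨g, hg⟩ := exists_desc c sq ((yon S).map w)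
    (by rw [← Functor.map_comp, ← Functor.map_comp, hsw])
  haveI : Epi c := (Sheaf.isLocallySurjective_iff_epi' (Type (u + 1)) c).1 inferInstance
  have hgν : g ≫ (yon S).map ν = p := by
    rw [← cancel_epi c, reassoc_of% hg, ← Functor.map_comp, hwν, hm]
  refine ⟨N, ν, g, hν, hgν,
    AffineDescent.isIntegralMor_iff.2 ((AlgSp.repWith_yon_map_iff _ ν).2 hν), ?_⟩
  intro T' hT' ξ hξ P' N₂ Z a p' sqP b n' sqN j hj1 hj2 hZ π g' hπ hg'
  obtain ⟨k, rfl⟩ := (yon S).map_surjective ξ
  haveI : Smooth k.left := smooth_of_locP_yon_map k hξ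
  haveI := hT'
  let W' := Limits.pullback m k
  let R' := Limits.pullback n k
  let N' := Limits.pullback ν k
  let σ : W' ⟶ W := Limits.pullback.fst m k
  let m' : W' ⟶ T' := Limits.pullback.snd m k
  let ρ : R' ⟶ R := Limits.pullback.fst n k
  let n'' : R' ⟶ T' := Limits.pullback.snd n k
  let τ : N' ⟶ N := Limits.pullback.fst ν k
  let ν' : N' ⟶ T' := Limits.pullback.snd ν k
  have sqW : IsPullback σ m' m k := IsPullback.of_hasPullback m k
  have sqR : IsPullback ρ n'' n k := IsPullback.of_hasPullback n k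
  have sqN' : IsPullback τ ν' ν k := IsPullback.of_hasPullback ν k
  let s' : R' ⟶ W' := sqW.lift (ρ ≫ s) n'' (by rw [Category.assoc, hs, sqR.w])
  let t' : R' ⟶ W' := sqW.lift (ρ ≫ t) n'' (by rw [Category.assoc, ht, sqR.w])
  have hs1 : s' ≫ σ = ρ ≫ s := sqW.lift_fst _ _ _
  have hs2 : s' ≫ m' = n'' := sqW.lift_snd _ _ _
  have ht1 : t' ≫ σ = ρ ≫ t := sqW.lift_fst _ _ _
  have ht2 : t' ≫ m' = n'' := sqW.lift_snd _ _ _
  let c' : (yon S).obj W' ⟶ P' := sqP.lift ((yon S).map σ ≫ c) ((yon S).map m')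
    (by rw [Category.assoc, hm, ← Functor.map_comp, ← Functor.map_comp, sqW.w])
  have hc'1 : c' ≫ a = (yon S).map σ ≫ c := sqP.lift_fst _ _ _
  have hc'2 : c' ≫ p' = (yon S).map m' := sqP.lift_snd _ _ _
  have sqc : IsPullback ((yon S).map σ) c' c a :=
    IsPullback.of_bot (by rw [hc'2, hm]; exact isPullback_yon sqW) hc'1.symm sqP
  haveI := isLocallySurjective_of_etale (repWith_baseChange sqc hc) (repWith_baseChange sqc hcs)
  haveI : Epi c' := (Sheaf.isLocallySurjective_iff_epi' (Type (u + 1)) c').1 inferInstance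
  let eN := sqN.isoIsPullback _ _ (isPullback_yon sqN')
  have heN1 : eN.hom ≫ (yon S).map τ = b := IsPullback.isoIsPullback_hom_fst _ _ _ _
  have heN2 : eN.hom ≫ (yon S).map ν' = n' := IsPullback.isoIsPullback_hom_snd _ _ _ _
  obtain ⟨w', hw'⟩ := (yon S).map_surjective (c' ≫ j ≫ eN.hom)
  have hw1 : w' ≫ τ = σ ≫ w := (yon S).map_injective (by
    rw [Functor.map_comp, Functor.map_comp, hw', Category.assoc, Category.assoc, heN1, hj1,
      reassoc_of% hc'1, hg])
  have hw2 : w' ≫ ν' = m' := (yon S).map_injective (by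
    rw [Functor.map_comp, hw', Category.assoc, Category.assoc, heN2, hj2, hc'2])
  obtain ⟨B, r, eB, heB, hr⟩ := exists_scheme_of_isIntegralMor hπ
  haveI := hr
  obtain ⟨gW, hgW⟩ := (yon S).map_surjective (c' ≫ g' ≫ eB.inv)
  have hgr : gW ≫ r = m' := (yon S).map_injective (by
    rw [Functor.map_comp, hgW, Category.assoc, Category.assoc, ← heB, Iso.inv_hom_id_assoc, hg',
      hc'2])
  have hcc : (yon S).map s' ≫ c' = (yon S).map t' ≫ c' := by
    apply sqP.hom_ext
    · rw [Category.assoc, hc'1, ← Functor.map_comp_assoc, hs1, Category.assoc, hc'1,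
        ← Functor.map_comp_assoc, ht1, Functor.map_comp_assoc, Functor.map_comp_assoc, sq.w]
    · rw [Category.assoc, hc'2, ← Functor.map_comp, hs2, Category.assoc, hc'2,
        ← Functor.map_comp, ht2]
  have hgg : s' ≫ gW = t' ≫ gW := (yon S).map_injective (by
    rw [Functor.map_comp, Functor.map_comp, hgW, reassoc_of% hcc])
  have key := huniv k.left σ.left m'.left (sqW.map (Over.forget S)) ρ.left n''.left
    (sqR.map (Over.forget S)) τ.left ν'.left (sqN'.map (Over.forget S)) s'.left t'.left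
    (congrArg Over.Hom.left hs1) (congrArg Over.Hom.left hs2)
    (congrArg Over.Hom.left ht1) (congrArg Over.Hom.left ht2) w'.left
    (congrArg Over.Hom.left hw1) (congrArg Over.Hom.left hw2) r.left gW.left
    (congrArg Over.Hom.left hgr) (congrArg Over.Hom.left hgg)
  obtain ⟨h₀, ⟨hh1, hh2⟩, huq⟩ := key
  let h : N' ⟶ B := Over.homMk h₀ (by rw [← Over.w r, reassoc_of% hh2, Over.w])
  have e1 : w' ≫ h = gW := Over.OverMorphism.ext hh1
  have e2 : h ≫ r = ν' := Over.OverMorphism.ext hh2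
  refine ⟨eN.hom ≫ (yon S).map h ≫ eB.hom, ⟨?_, ?_⟩, fun H ⟨hH1, hH2⟩ => ?_⟩
  · rw [← cancel_epi c', ← cancel_mono eB.inv]
    simp only [Category.assoc, Iso.hom_inv_id, Category.comp_id]
    rw [← hgW, ← reassoc_of% hw', ← Functor.map_comp, e1]
  · rw [Category.assoc, Category.assoc, heB, ← Functor.map_comp, e2, heN2]
  · obtain ⟨H₀, hH₀⟩ := (yon S).map_surjective (eN.inv ≫ H ≫ eB.inv)
    have : H₀ = h := Over.OverMorphism.ext (huq H₀.left ⟨?_, ?_⟩)
    · rw [← this, hH₀]
      simp
    · exact congrArg Over.Hom.left ((yon S).map_injective (show (yon S).map (w' ≫ H₀) = _ by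
        rw [Functor.map_comp, hw', hH₀, hgW, Category.assoc, Category.assoc,
          Iso.hom_inv_id_assoc, reassoc_of% hH1]))
    · exact congrArg Over.Hom.left ((yon S).map_injective (show (yon S).map (H₀ ≫ r) = _ by
        rw [Functor.map_comp, hH₀, Category.assoc, Category.assoc, ← heB, Iso.inv_hom_id_assoc,
          hH2, ← heN2, Iso.inv_hom_id_assoc]))

end Groth.Agent.Lib.AlgSpMor.RelNorm
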