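import Groth.Agent.Lib.AlgSpMor.RelNorm.Affine

/-!
# Relative normalisation of algebraic spaces: charts
-/

set_option autoImplicit false
set_option linter.style.haveILetI false

universe u

open CategoryTheory CategoryTheory.Limits AlgebraicGeometry Opposite
open Groth.Agent.Lib.AlgSpace

namespace Groth.Agent.Lib.AlgSpMor.RelNorm

open AlgSp (Sp yon Representable RepWith IsAlgSpace LocP IsIntegralMor IsRelNormalization)

variable {S : Scheme.{u}} {X Y : Sp S}

/-- An etale chart of the target together with the relative normalisation on it. -/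
structure Chart (f : Y ⟶ X) : Type (u + 1) where
  V : Over S
  b : (yon S).obj V ⟶ X
  etale : RepWith @Etale b
  N : Over S
  ν : N ⟶ V
  integral : IsIntegralHom ν.left
  g : pullback f b ⟶ (yon S).obj N
  str : Str (pullback.snd f b) ((yon S).map ν) g

variable {f : Y ⟶ X}

theorem Chart.g_comp (C : Chart f) : C.g ≫ (yon S).map C.ν = pullback.snd f C.b := C.str.fac

/-- Maps of charts. -/
structure ChartHom (C C' : Chart f) where
  k : C.V ⟶ C'.V
  m : C.N ⟶ C'.N
  hk : (yon S).map k ≫ C'.b = C.b
  hm : m ≫ C'.ν = C.ν ≫ k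
  hg : C.g ≫ (yon S).map m =
    pullback.lift (pullback.fst f C.b) (pullback.snd f C.b ≫ (yon S).map k)
      (by rw [Category.assoc, hk, pullback.condition]) ≫ C'.g

theorem existsUnique_m (C C' : Chart f) (k : C.V ⟶ C'.V) (hk : (yon S).map k ≫ C'.b = C.b) :
    ∃! m : C.N ⟶ C'.N, m ≫ C'.ν = C.ν ≫ k ∧ C.g ≫ (yon S).map m =
      pullback.lift (pullback.fst f C.b) (pullback.snd f C.b ≫ (yon S).map k)
        (by rw [Category.assoc, hk, pullback.condition]) ≫ C'.g := by
  let M := Limits.pullback C'.ν k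
  let M₁ : M ⟶ C'.N := Limits.pullback.fst C'.ν k
  let M₂ : M ⟶ C.V := Limits.pullback.snd C'.ν k
  have sqM : IsPullback M₁ M₂ C'.ν k := IsPullback.of_hasPullback C'.ν k
  let gM := (isPullback_yon sqM).lift
    (pullback.lift (pullback.fst f C.b) (pullback.snd f C.b ≫ (yon S).map k)
      (by rw [Category.assoc, hk, pullback.condition]) ≫ C'.g) (pullback.snd f C.b)
    (by rw [Category.assoc, C'.g_comp, pullback.lift_snd])
  have hgM1 : gM ≫ (yon S).map M₁ = _ := (isPullback_yon sqM).lift_fst _ _ _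
  have hgM2 : gM ≫ (yon S).map M₂ = _ := (isPullback_yon sqM).lift_snd _ _ _
  obtain ⟨h, ⟨h1, h2⟩, hu⟩ := (C.str.isRelNormalization (IsAlgSpace.yon_obj C.V)).2.2
    (IsAlgSpace.yon_obj M) ((yon S).map M₂) gM
    (isIntegralMor_baseChange (isPullback_yon sqM)
      (AffineDescent.isIntegralMor_iff.2 ((AlgSp.repWith_yon_map_iff _ C'.ν).2 C'.integral))) hgM2
  obtain ⟨h, rfl⟩ := (yon S).map_surjective h
  have h2' : h ≫ M₂ = C.ν := (yon S).map_injective (by rw [Functor.map_comp]; exact h2)
  refine ⟨h ≫ M₁, ⟨by rw [Category.assoc, sqM.w, reassoc_of% h2'],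
    by rw [Functor.map_comp, reassoc_of% h1, hgM1]⟩, fun m ⟨hm1, hm2⟩ => ?_⟩
  have := hu ((yon S).map (sqM.lift m C.ν hm1)) ⟨?_, ?_⟩
  · rw [← (yon S).map_injective this, sqM.lift_fst]
  · apply (isPullback_yon sqM).hom_ext
    · rw [Category.assoc, hgM1, ← Functor.map_comp, sqM.lift_fst, hm2]
    · rw [Category.assoc, hgM2, ← Functor.map_comp, sqM.lift_snd, C.g_comp]
  · rw [← Functor.map_comp, sqM.lift_snd]

theorem ChartHom.m_eq {C C' : Chart f} (φ : ChartHom C C') {k : C.V ⟶ C'.V} {m : C.N ⟶ C'.N}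
    (hk : φ.k = k) (hm : m ≫ C'.ν = C.ν ≫ k)
    (hg : C.g ≫ (yon S).map m = pullback.lift (pullback.fst f C.b)
      (pullback.snd f C.b ≫ (yon S).map k)
      (by rw [Category.assoc, ← hk, φ.hk, pullback.condition]) ≫ C'.g) : φ.m = m := by
  subst hk
  exact (existsUnique_m C C' φ.k φ.hk).unique ⟨φ.hm, φ.hg⟩ ⟨hm, hg⟩

/-- Composition of maps of charts. -/
noncomputable def ChartHom.comp {C C' C'' : Chart f} (φ : ChartHom C C') (ψ : ChartHom C' C'') :
    ChartHom C C'' where
  k := φ.k ≫ ψ.k
  m := φ.m ≫ ψ.m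
  hk := by rw [Functor.map_comp, Category.assoc, ψ.hk, φ.hk]
  hm := by rw [Category.assoc, ψ.hm, reassoc_of% φ.hm]
  hg := by
    rw [Functor.map_comp, reassoc_of% φ.hg, ψ.hg, ← Category.assoc]
    congr 1
    apply pullback.hom_ext <;> simp [pullback.lift_fst, pullback.lift_snd,
      pullback.lift_snd_assoc]

/-- The identity map of a chart. -/
noncomputable def ChartHom.id (C : Chart f) : ChartHom C C where
  k := 𝟙 _
  m := 𝟙 _
  hk := by simp
  hm := by simp
  hg := by
    rw [CategoryTheory.Functor.map_id, Category.comp_id]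
    exact (Category.id_comp _).symm.trans (congrArg (· ≫ C.g)
      (by apply pullback.hom_ext <;> simp [pullback.lift_fst, pullback.lift_snd]))

/-- A chosen map of charts over a given map. -/
noncomputable def ChartHom.mk' (C C' : Chart f) (k : C.V ⟶ C'.V)
    (hk : (yon S).map k ≫ C'.b = C.b) : ChartHom C C' where
  k := k
  m := (existsUnique_m C C' k hk).exists.choose
  hk := hk
  hm := (existsUnique_m C C' k hk).exists.choose_spec.1
  hg := (existsUnique_m C C' k hk).exists.choose_spec.2

theorem ChartHom.m_eq_of_k_eq {C C' : Chart f} (φ ψ : ChartHom C C') (h : φ.k = ψ.k) :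
    φ.m = ψ.m :=
  φ.m_eq h ψ.hm ψ.hg

variable (C : Chart f) {R : Over S} (r : R ⟶ C.V)

theorem isPullback_chart_bc :
    IsPullback (pullback.lift (pullback.fst f ((yon S).map r ≫ C.b))
        (pullback.snd f ((yon S).map r ≫ C.b) ≫ (yon S).map r)
        (by rw [Category.assoc, pullback.condition]) :
          pullback f ((yon S).map r ≫ C.b) ⟶ pullback f C.b)
      (pullback.snd f ((yon S).map r ≫ C.b)) (pullback.snd f C.b) ((yon S).map r) :=
  IsPullback.of_right (by rw [pullback.lift_fst]; exact IsPullback.of_hasPullback _ _)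
    (pullback.lift_snd _ _ _) (IsPullback.of_hasPullback f C.b)

/-- Base change of a chart along an etale map. -/
noncomputable def Chart.bc (hr : Etale r.left) : Chart f where
  V := R
  b := (yon S).map r ≫ C.b
  etale := repWith_etale_comp C.etale r hr
  N := Limits.pullback C.ν r
  ν := Limits.pullback.snd C.ν r
  integral := MorphismProperty.of_isPullback (P := @IsIntegralHom.{u})
    ((IsPullback.of_hasPullback C.ν r).map (Over.forget S)) C.integral
  g := (isPullback_yon (IsPullback.of_hasPullback C.ν r)).lift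
    (pullback.lift (pullback.fst f ((yon S).map r ≫ C.b))
        (pullback.snd f ((yon S).map r ≫ C.b) ≫ (yon S).map r)
        (by rw [Category.assoc, pullback.condition]) ≫ C.g) (pullback.snd f _)
    (by rw [Category.assoc, C.g_comp, pullback.lift_snd])
  str := C.str.baseChange (IsAlgSpace.yon_obj C.V) (IsAlgSpace.yon_obj R)
    (locP_smooth_yon_map r inferInstance) (isPullback_chart_bc C r)
    (isPullback_yon (IsPullback.of_hasPullback C.ν r))
    (IsPullback.lift_fst _ _ _ _) (IsPullback.lift_snd _ _ _ _)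

/-- The projection from a base change chart. -/
noncomputable def Chart.bcHom (hr : Etale r.left) : ChartHom (C.bc r hr) C where
  k := r
  m := Limits.pullback.fst C.ν r
  hk := rfl
  hm := pullback.condition
  hg := (isPullback_yon (IsPullback.of_hasPullback C.ν r)).lift_fst _ _ _

theorem Chart.bc_g_fst (hr : Etale r.left) :
    (C.bc r hr).g ≫ (yon S).map (Limits.pullback.fst C.ν r) =
      pullback.lift (pullback.fst f ((yon S).map r ≫ C.b))
        (pullback.snd f ((yon S).map r ≫ C.b) ≫ (yon S).map r)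
        (by rw [Category.assoc, pullback.condition]) ≫ C.g :=
  (isPullback_yon (IsPullback.of_hasPullback C.ν r)).lift_fst _ _ _

theorem Chart.bc_g_snd (hr : Etale r.left) :
    (C.bc r hr).g ≫ (yon S).map (Limits.pullback.snd C.ν r) =
      pullback.snd f ((yon S).map r ≫ C.b) :=
  (isPullback_yon (IsPullback.of_hasPullback C.ν r)).lift_snd _ _ _

/-- Affine etale charts carry a normalisation. -/
theorem exists_chart (hX : IsAlgSpace X) (hY : IsAlgSpace Y) (hqc : AlgSp.IsQuasiCompactMor f)
    (hqs : AlgSp.IsQuasiSeparatedMor f) {V : Over S} (hV : IsAffine V.left)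
    {b : (yon S).obj V ⟶ X} (hb : RepWith @Etale b) :
    ∃ C : Chart f, ∃ e : C.V = V, (yon S).map (eqToHom e) ≫ b = C.b := by
  have sq := IsPullback.of_hasPullback f b
  haveI := hV
  obtain ⟨N, ν, g, hν, hstr⟩ := exists_str_affine
    (isAlgSpace_of_isPullback sq hX.diag hY (IsAlgSpace.yon_obj V))
    (Perm.isQuasiCompactMor_baseChange sq hqc)
    (Sep.repWith_diagonal_baseChange sq hqs)
  exact ⟨⟨V, b, hb, N, ν, hν, g, hstr⟩, rfl, by simp⟩

/-- The chart over a given affine etale map. -/
theorem exists_chart_data (hX : IsAlgSpace X) (hY : IsAlgSpace Y)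
    (hqc : AlgSp.IsQuasiCompactMor f) (hqs : AlgSp.IsQuasiSeparatedMor f) {V : Over S}
    (hV : IsAffine V.left) {b : (yon S).obj V ⟶ X} (hb : RepWith @Etale b) :
    ∃ (N : Over S) (ν : N ⟶ V) (g : pullback f b ⟶ (yon S).obj N),
      IsIntegralHom ν.left ∧ Str (pullback.snd f b) ((yon S).map ν) g := by
  haveI := hV
  have sq := IsPullback.of_hasPullback f b
  exact exists_str_affine (isAlgSpace_of_isPullback sq hX.diag hY (IsAlgSpace.yon_obj V))
    (Perm.isQuasiCompactMor_baseChange sq hqc) (Sep.repWith_diagonal_baseChange sq hqs)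

end Groth.Agent.Lib.AlgSpMor.RelNorm
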