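import Groth.Agent.Lib.AlgSpMor.RelNorm.FinitePiece

/-!
# An integral clopen piece splits off the normalisation
-/

set_option autoImplicit false
set_option linter.style.haveILetI false

universe u

open CategoryTheory CategoryTheory.Limits AlgebraicGeometry Opposite
open Groth.Agent.Lib.AlgSpace

namespace Groth.Agent.Lib.AlgSpMor.RelNorm

open AlgSp (Sp yon Representable RepWith IsAlgSpace LocP IsIntegralMor IsRelNormalization Points)

variable {S : Scheme.{u}}

theorem ofScheme_injective' (U : Over S) : Function.Injective (Points.ofScheme U) := fun u v h => by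
  rw [← Points.toScheme_ofScheme U u, h, Points.toScheme_ofScheme]

/-- A closed and open subspace integral over the affine base maps isomorphically onto an open
piece of the normalisation, of which it is the full preimage. -/
theorem exists_clopen_iso {T : Over S} {P : Sp S} (hP : IsAlgSpace P) {p : P ⟶ (yon S).obj T}
    {N : Over S} {ν : N ⟶ T} (hν : IsIntegralHom ν.left) {g : P ⟶ (yon S).obj N}
    (hn : IsRelNormalization p ((yon S).map ν) g) {Q : Over S} {τ : Q ⟶ T}
    [IsIntegralHom τ.left] {l : (yon S).obj Q ⟶ P} (hl : RepWith @IsOpenImmersion l)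
    (hlc : IsClosed (Set.range (Points.map l))) (hlτ : l ≫ p = (yon S).map τ) :
    ∃ (U₁ : Over S) (ι : U₁ ⟶ N) (q : Q ⟶ U₁), IsOpenImmersion ι.left ∧ IsIso q ∧
      IsPullback l ((yon S).map q) g ((yon S).map ι) := by
  haveI := hν
  have hlm : Mono l := mono_of_repWith (P := @IsOpenImmersion)
    (fun _ _ g (_ : IsOpenImmersion g) ↦ (inferInstance : Mono g)) hl
  have hle : RepWith @Etale l := repWith_mono hl fun _ _ g (_ : IsOpenImmersion g) ↦
    (inferInstance : Etale g)
  -- the target of the splitting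
  let Z : Over S := Over.mk (coprod.desc τ.left ν.left ≫ T.hom)
  let π : Z ⟶ T := Over.homMk (coprod.desc τ.left ν.left) rfl
  haveI : IsIntegralHom π.left := inferInstanceAs (IsIntegralHom (coprod.desc τ.left ν.left))
  let inl : Q ⟶ Z := Over.homMk coprod.inl (by
    change coprod.inl ≫ coprod.desc τ.left ν.left ≫ T.hom = Q.hom
    rw [coprod.inl_desc_assoc, Over.w])
  let inr : N ⟶ Z := Over.homMk coprod.inr (by
    change coprod.inr ≫ coprod.desc τ.left ν.left ≫ T.hom = N.hom
    rw [coprod.inr_desc_assoc, Over.w])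
  have hlπ : inl ≫ π = τ := Over.OverMorphism.ext (coprod.inl_desc _ _)
  have hrπ : inr ≫ π = ν := Over.OverMorphism.ext (coprod.inr_desc _ _)
  obtain ⟨l', hl'⟩ := (yon S).map_surjective (l ≫ g)
  have hl'ν : l' ≫ ν = τ := (yon S).map_injective (by
    rw [Functor.map_comp, hl', Category.assoc, hn.1, hlτ])
  let k : Z ⟶ N := Over.homMk (coprod.desc l'.left (𝟙 _)) (by
    change coprod.desc l'.left (𝟙 _) ≫ N.hom = coprod.desc τ.left ν.left ≫ T.hom
    apply coprod.hom_ext
    · simp [Over.w]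
    · simp [Over.w])
  have hlk : inl ≫ k = l' := Over.OverMorphism.ext (coprod.inl_desc _ _)
  have hrk : inr ≫ k = 𝟙 N := Over.OverMorphism.ext (coprod.inr_desc _ _)
  have hkπ : k ≫ ν = π := by
    refine Over.OverMorphism.ext (coprod.hom_ext ?_ ?_)
    · change coprod.inl ≫ coprod.desc l'.left (𝟙 _) ≫ ν.left = coprod.inl ≫ coprod.desc τ.left ν.left
      rw [coprod.inl_desc_assoc, coprod.inl_desc, ← Over.comp_left, hl'ν]
    · change coprod.inr ≫ coprod.desc l'.left (𝟙 _) ≫ ν.left = coprod.inr ≫ coprod.desc τ.left ν.left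
      rw [coprod.inr_desc_assoc, coprod.inr_desc, Category.id_comp]
  -- an atlas
  obtain ⟨W, c, hc, hcs⟩ := hP.atlas
  haveI := isLocallySurjective_of_etale hc hcs
  haveI : Epi c := (Sheaf.isLocallySurjective_iff_epi' (Type (u + 1)) c).1 inferInstance
  obtain ⟨w, hw⟩ := (yon S).map_surjective (c ≫ g)
  have hrl : Set.range (Points.map l) = Set.range (Points.ofPt l) := by
    ext x
    constructor
    · rintro ⟨y, rfl⟩
      refine ⟨Points.toScheme Q y, ?_⟩
      conv_rhs => rw [← Points.ofScheme_toScheme Q y]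
      exact ((Points.map_ofPt _ _ _).trans (by rw [Category.id_comp])).symm
    · rintro ⟨y, rfl⟩
      exact ⟨Points.ofScheme Q y, (Points.map_ofPt _ _ _).trans (by rw [Category.id_comp])⟩
  let O : W.left.Opens := ⟨Points.ofPt c ⁻¹' Set.range (Points.map l), by
    rw [hrl]
    exact (AlgSpDecent.Core.isOpen_range_ofPt hle).preimage (Points.continuous_ofPt c)⟩
  let O' : W.left.Opens := ⟨(Points.ofPt c ⁻¹' Set.range (Points.map l))ᶜ,
    (hlc.preimage (Points.continuous_ofPt c)).isOpen_compl⟩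
  obtain ⟨b₀, hb₀⟩ := exists_lift_yon_of_range_subset hl ((yon S).map (Topo.opensOverι O) ≫ c) (by
    rintro _ ⟨z, rfl⟩
    rw [ofPt_yon_map_comp]
    exact (z : ↥O).2)
  obtain ⟨b, rfl⟩ := (yon S).map_surjective b₀
  obtain ⟨HW⟩ := nonempty_isColimit_binaryCofanMk_of_isCompl O.ι O'.ι (by
    simp only [Scheme.Opens.opensRange_ι]
    refine IsCompl.of_eq ?_ ?_
    · exact TopologicalSpace.Opens.ext (Set.inter_compl_self _)
    · exact TopologicalSpace.Opens.ext (Set.union_compl_self _))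
  obtain ⟨φ₀, hφ1, hφ2⟩ := BinaryCofan.IsColimit.desc' HW (b.left ≫ inl.left)
    (O'.ι ≫ w.left ≫ inr.left)
  change O.ι ≫ φ₀ = b.left ≫ inl.left at hφ1
  change O'.ι ≫ φ₀ = O'.ι ≫ w.left ≫ inr.left at hφ2
  let φ : W ⟶ Z := Over.homMk φ₀ (by
    refine BinaryCofan.IsColimit.hom_ext HW ?_ ?_
    · change O.ι ≫ φ₀ ≫ Z.hom = O.ι ≫ W.hom
      rw [reassoc_of% hφ1, Over.w inl, Over.w b]
      rfl
    · change O'.ι ≫ φ₀ ≫ Z.hom = O'.ι ≫ W.hom
      rw [reassoc_of% hφ2, Over.w inr, Over.w w])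
  have hbw : b ≫ l' = Topo.opensOverι O ≫ w := (yon S).map_injective (by
    rw [Functor.map_comp, Functor.map_comp, hl', hw, reassoc_of% hb₀])
  have key1 : ∀ {A : Over S} (e : A ⟶ W) (v : A ⟶ Q), Set.range e.left ⊆ (O : Set W.left) →
      (yon S).map v ≫ l = (yon S).map e ≫ c → e ≫ φ = v ≫ inl := by
    intro A e v he hv
    let e₀ : A ⟶ Topo.opensOver O := Over.homMk
      (IsOpenImmersion.lift O.ι e.left (by rw [Scheme.Opens.range_ι]; exact he)) (by
        change IsOpenImmersion.lift O.ι e.left _ ≫ O.ι ≫ W.hom = A.hom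
        rw [IsOpenImmersion.lift_fac_assoc, Over.w])
    have he₀ : e₀ ≫ Topo.opensOverι O = e :=
      Over.OverMorphism.ext (IsOpenImmersion.lift_fac _ _ _)
    have hv' : v = e₀ ≫ b := (yon S).map_injective (by
      rw [← cancel_mono l, hv, Functor.map_comp, Category.assoc, hb₀, ← Functor.map_comp_assoc, he₀])
    rw [← he₀, hv', Category.assoc, Category.assoc]
    exact congrArg (e₀ ≫ ·) (Over.OverMorphism.ext hφ1)
  have key2 : ∀ {A : Over S} (e : A ⟶ W), Set.range e.left ⊆ (O' : Set W.left) →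
      e ≫ φ = e ≫ w ≫ inr := by
    intro A e he
    let e₀ : A ⟶ Topo.opensOver O' := Over.homMk
      (IsOpenImmersion.lift O'.ι e.left (by rw [Scheme.Opens.range_ι]; exact he)) (by
        change IsOpenImmersion.lift O'.ι e.left _ ≫ O'.ι ≫ W.hom = A.hom
        rw [IsOpenImmersion.lift_fac_assoc, Over.w])
    have he₀ : e₀ ≫ Topo.opensOverι O' = e :=
      Over.OverMorphism.ext (IsOpenImmersion.lift_fac _ _ _)
    rw [← he₀, Category.assoc, Category.assoc]
    exact congrArg (e₀ ≫ ·) (Over.OverMorphism.ext hφ2)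
  have hφπ : φ ≫ π = w ≫ ν := by
    refine Over.OverMorphism.ext (BinaryCofan.IsColimit.hom_ext HW ?_ ?_)
    · change O.ι ≫ φ₀ ≫ π.left = (Topo.opensOverι O ≫ w ≫ ν).left
      rw [reassoc_of% hφ1, ← reassoc_of% hbw, hl'ν, ← hlπ]
      rfl
    · change O'.ι ≫ φ₀ ≫ π.left = O'.ι ≫ w.left ≫ ν.left
      rw [reassoc_of% hφ2, ← Over.comp_left, hrπ]
  have hφk : φ ≫ k = w := by
    refine Over.OverMorphism.ext (BinaryCofan.IsColimit.hom_ext HW ?_ ?_)
    · change O.ι ≫ φ₀ ≫ k.left = (Topo.opensOverι O ≫ w).left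
      rw [reassoc_of% hφ1, ← hbw, ← hlk]
      rfl
    · change O'.ι ≫ φ₀ ≫ k.left = O'.ι ≫ w.left
      rw [reassoc_of% hφ2, ← Over.comp_left, hrk, Over.id_left, Category.comp_id]
  let R := hc.rep.pullback c
  let s : R ⟶ W := hc.rep.fst' c
  let t : R ⟶ W := hc.rep.snd c
  have sq : IsPullback ((yon S).map s) ((yon S).map t) c c := hc.rep.isPullback' c
  have hst : s ≫ φ = t ≫ φ := by
    let OR : R.left.Opens := s.left ⁻¹ᵁ O
    let OR' : R.left.Opens := s.left ⁻¹ᵁ O'
    have hpt : ∀ z, Points.ofPt c (s.left z) = Points.ofPt c (t.left z) := fun z => by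
      rw [← ofPt_yon_map_comp, ← ofPt_yon_map_comp, sq.w]
    obtain ⟨HR⟩ := nonempty_isColimit_binaryCofanMk_of_isCompl OR.ι OR'.ι (by
      simp only [Scheme.Opens.opensRange_ι]
      refine IsCompl.of_eq ?_ ?_
      · exact TopologicalSpace.Opens.ext (Set.inter_compl_self _)
      · exact TopologicalSpace.Opens.ext (Set.union_compl_self _))
    refine Over.OverMorphism.ext (BinaryCofan.IsColimit.hom_ext HR ?_ ?_)
    · let j := Topo.opensOverι OR
      have r1 : Set.range (j ≫ s).left ⊆ (O : Set W.left) := by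
        rintro _ ⟨z, rfl⟩; exact (z : ↥OR).2
      have r2 : Set.range (j ≫ t).left ⊆ (O : Set W.left) := by
        rintro _ ⟨z, rfl⟩
        show Points.ofPt c _ ∈ Set.range (Points.map l)
        exact (hpt (OR.ι z)) ▸ (z : ↥OR).2
      obtain ⟨v₀, hv₀⟩ := exists_lift_yon_of_range_subset hl ((yon S).map (j ≫ s) ≫ c) (by
        rintro _ ⟨z, rfl⟩
        rw [ofPt_yon_map_comp]
        exact r1 ⟨z, rfl⟩)
      obtain ⟨v, rfl⟩ := (yon S).map_surjective v₀
      change (j ≫ s ≫ φ).left = (j ≫ t ≫ φ).left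
      rw [← Category.assoc, key1 _ v r1 hv₀, ← Category.assoc, key1 _ v r2 (by
        rw [hv₀, Functor.map_comp, Functor.map_comp, Category.assoc, Category.assoc, sq.w])]
    · let j := Topo.opensOverι OR'
      have r1 : Set.range (j ≫ s).left ⊆ (O' : Set W.left) := by
        rintro _ ⟨z, rfl⟩; exact (z : ↥OR').2
      have r2 : Set.range (j ≫ t).left ⊆ (O' : Set W.left) := by
        rintro _ ⟨z, rfl⟩ h
        exact (z : ↥OR').2 (show Points.ofPt c _ ∈ Set.range (Points.map l) from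
          (hpt (OR'.ι z)).symm ▸ h)
      have hsw : s ≫ w = t ≫ w := (yon S).map_injective (by
        rw [Functor.map_comp, Functor.map_comp, hw, reassoc_of% sq.w])
      change (j ≫ s ≫ φ).left = (j ≫ t ≫ φ).left
      rw [← Category.assoc j s φ, key2 _ r1, ← Category.assoc j t φ, key2 _ r2]
      simp only [Category.assoc, reassoc_of% hsw]
  obtain ⟨γ, hγ⟩ := exists_desc c sq ((yon S).map φ)
    (by rw [← Functor.map_comp, ← Functor.map_comp, hst])
  have hγπ : γ ≫ (yon S).map π = p := by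
    rw [← cancel_epi c, reassoc_of% hγ, ← Functor.map_comp, hφπ, Functor.map_comp, hw,
      Category.assoc, hn.1]
  have hγk : γ ≫ (yon S).map k = g := by
    rw [← cancel_epi c, reassoc_of% hγ, ← Functor.map_comp, hφk, hw]
  have hlγ : l ≫ γ = (yon S).map inl := by
    obtain ⟨Q', e, u, sqQ⟩ := exists_isPullback_yon hP.diag c l
    haveI : Etale u.left := repWith_property hc sqQ
    haveI : Surjective u.left := repWith_property hcs sqQ
    haveI := epi_yon_map u (fppfCover_mk u.left)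
    rw [← cancel_epi ((yon S).map u), ← reassoc_of% sqQ.w, hγ, ← Functor.map_comp,
      ← Functor.map_comp]
    refine congrArg _ (key1 e u ?_ sqQ.w.symm)
    rintro _ ⟨z, rfl⟩
    show Points.ofPt c (e.left z) ∈ Set.range (Points.map l)
    rw [← ofPt_yon_map_comp, sqQ.w, ofPt_yon_map_comp, hrl]
    exact ⟨_, rfl⟩
  -- the universal property
  obtain ⟨h₀, ⟨h1, h2⟩, -⟩ := hn.2.2 (IsAlgSpace.yon_obj Z) ((yon S).map π) γ
    (AffineDescent.isIntegralMor_iff.2 ((AlgSp.repWith_yon_map_iff _ π).2 ‹_›)) hγπ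
  obtain ⟨h, rfl⟩ := (yon S).map_surjective h₀
  have hhπ : h ≫ π = ν := (yon S).map_injective (by rw [Functor.map_comp]; exact h2)
  obtain ⟨_, -, huq⟩ := hn.2.2 (IsAlgSpace.yon_obj N) ((yon S).map ν) g hn.2.1 hn.1
  have hhk : h ≫ k = 𝟙 N := (yon S).map_injective ((huq _ ⟨?_, ?_⟩).trans (huq _ ⟨?_, ?_⟩).symm)
  · have hl'h : l' ≫ h = inl := (yon S).map_injective (by
      rw [Functor.map_comp, hl', Category.assoc, h1, hlγ])
    let U₀ : N.left.Opens := h.left ⁻¹ᵁ (coprod.inl : Q.left ⟶ Q.left ⨿ N.left).opensRange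
    let U₁ := Topo.opensOver U₀
    let ι : U₁ ⟶ N := Topo.opensOverι U₀
    have hq : Set.range l'.left ⊆ Set.range U₀.ι := by
      rintro _ ⟨z, rfl⟩
      rw [Scheme.Opens.range_ι]
      exact ⟨z, congrArg (fun a : Q ⟶ Z => a.left z) hl'h.symm⟩
    let q : Q ⟶ U₁ := Over.homMk (IsOpenImmersion.lift U₀.ι l'.left hq) (by
      change IsOpenImmersion.lift U₀.ι l'.left hq ≫ U₀.ι ≫ N.hom = Q.hom
      rw [IsOpenImmersion.lift_fac_assoc, Over.w])
    have hqι : q ≫ ι = l' := Over.OverMorphism.ext (IsOpenImmersion.lift_fac _ _ _)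
    have hq₀ : Set.range (ι ≫ h).left ⊆ Set.range (coprod.inl : Q.left ⟶ Q.left ⨿ N.left) := by
      rintro _ ⟨z, rfl⟩
      exact (z : ↥U₀).2
    let q₀ : U₁ ⟶ Q := Over.homMk
      (IsOpenImmersion.lift (coprod.inl : Q.left ⟶ Q.left ⨿ N.left) (ι ≫ h).left hq₀) (by
        have e : coprod.inl ≫ Z.hom = Q.hom := Over.w inl
        rw [← e, IsOpenImmersion.lift_fac_assoc]
        exact Over.w (ι ≫ h))
    have hq₀' : q₀ ≫ inl = ι ≫ h := Over.OverMorphism.ext (IsOpenImmersion.lift_fac _ _ _)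
    haveI : Mono inl.left := inferInstanceAs (Mono (coprod.inl : Q.left ⟶ Q.left ⨿ N.left))
    haveI : Mono inl := Over.mono_of_mono_left inl
    haveI : IsOpenImmersion ι.left := inferInstanceAs (IsOpenImmersion U₀.ι)
    haveI : Mono ι := Over.mono_of_mono_left ι
    have e1 : q ≫ q₀ = 𝟙 Q := by
      rw [← cancel_mono inl, Category.assoc, hq₀', reassoc_of% hqι, hl'h, Category.id_comp]
    have e2 : q₀ ≫ q = 𝟙 U₁ := by
      rw [← cancel_mono ι, Category.assoc, hqι, ← hlk, reassoc_of% hq₀', hhk, Category.comp_id,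
        Category.id_comp]
    refine ⟨U₁, ι, q, ‹_›, ⟨q₀, e1, e2⟩, isPullback_of_yon ?_ (fun A x y hxy _ => ?_)
      (fun A a β hab => ?_)⟩
    · rw [← Functor.map_comp, hqι, hl']
    · exact (cancel_mono l).1 hxy
    · obtain ⟨β, rfl⟩ := (yon S).map_surjective β
      obtain ⟨z, hz⟩ := exists_lift_yon_of_range_subset hl a (by
        rintro _ ⟨x, rfl⟩
        by_contra hx
        obtain ⟨w₀, hw₀⟩ := surjective_ofPt hcs (Points.ofPt a x)
        have hw₀' : w₀ ∈ O' := fun hh => hx (hw₀ ▸ hh)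
        have e : Points.ofPt (a ≫ γ) x = Points.ofPt (c ≫ γ) w₀ := by
          rw [← Points.map_ofPt, ← Points.map_ofPt, hw₀]
        rw [hγ, ← h1, reassoc_of% hab, ← Functor.map_comp, ← Functor.map_comp] at e
        have e' : (β ≫ ι ≫ h).left x = φ.left w₀ := by
          apply ofScheme_injective' Z
          have a1 : ∀ {A B : Over S} (f : A ⟶ B) (z : A.left),
              Points.ofPt ((yon S).map f) z = Points.ofScheme B (f.left z) := fun f z =>
            (congrArg (fun m => Points.ofPt m z) (Category.comp_id ((yon S).map f)).symm).trans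
              (ofPt_yon_map_comp f (𝟙 _) z)
          rw [← a1, ← a1, e]
        have m1 : φ.left w₀ ∈ (coprod.inl : Q.left ⟶ Q.left ⨿ N.left).opensRange := by
          rw [← e']
          exact (β.left x : ↥U₀).2
        have m2 : φ.left w₀ ∈ (coprod.inr : N.left ⟶ Q.left ⨿ N.left).opensRange := by
          refine ⟨w.left w₀, ?_⟩
          exact (congrArg (fun f => f ⟨w₀, hw₀'⟩) hφ2).symm
        exact ((isCompl_opensRange_inl_inr Q.left N.left).disjoint.le_bot ⟨m1, m2⟩ : _))
      obtain ⟨z, rfl⟩ := (yon S).map_surjective z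
      refine ⟨(yon S).map z, hz, ?_⟩
      rw [← cancel_mono ((yon S).map ι), Category.assoc, ← (yon S).map_comp q ι, hqι, hl',
        reassoc_of% hz, hab]
  · rw [Functor.map_comp, reassoc_of% h1, hγk]
  · rw [← Functor.map_comp, Category.assoc, hkπ, hhπ]
  · rw [CategoryTheory.Functor.map_id, Category.comp_id]
  · rw [CategoryTheory.Functor.map_id, Category.id_comp]

end Groth.Agent.Lib.AlgSpMor.RelNorm
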