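import Groth.Agent.S9964
import Groth.Agent.S9965
import Groth.Agent.Lib.AlgSpMor.RelNorm.Str
import Groth.Agent.Lib.AlgSpMor.Perm
import Groth.Agent.Lib.AlgSpMor.Codim
import Groth.Agent.Lib.AlgSpMor.Proper
import Groth.Agent.Lib.AlgSpLimit.Separated

/-!
# Points of codimension zero of a relative normalisation
-/

set_option autoImplicit false

universe u

open CategoryTheory CategoryTheory.Limits AlgebraicGeometry
open Groth.Agent.Lib.AlgSpace

namespace Groth.Agent.Lib.AlgSpMor.RelNorm.CodimZero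

open AlgSp (Sp Space yon RepWith IsAlgSpace IsIntegralMor IsRelNormalization Points)
open Groth.Agent.Lib.AlgSpMor.Codim

variable {S : Scheme.{u}}

/-- Points without proper generizations are hit by dominant morphisms of affine schemes, at points
without proper generizations. -/
theorem exists_isGen_over {W T : Scheme.{u}} [IsAffine W] [IsAffine T] (g : W ⟶ T)
    (hd : DenseRange g) {t : ↥T} (ht : IsGen t) : ∃ w : ↥W, IsGen w ∧ g w = t := by
  have hT := T.isoSpec.hom.homeomorph
  have hgen : ∀ {Z : Scheme.{u}} [IsAffine Z] (z : ↥Z),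
      IsGen z ↔ (Z.isoSpec.hom z).asIdeal ∈ minimalPrimes Γ(Z, ⊤) := by
    intro Z _ z
    let e := Z.isoSpec.hom.homeomorph
    rw [minimalPrimes_eq_minimals, Set.mem_setOf_eq]
    constructor
    · intro h
      refine ⟨(Z.isoSpec.hom z).isPrime, fun J hJ hle => ?_⟩
      obtain ⟨y, hy⟩ := e.surjective ⟨J, hJ⟩
      have h1 : e y ⤳ e z := by
        rw [hy]; exact (PrimeSpectrum.le_iff_specializes ⟨J, hJ⟩ (e z)).1 hle
      have h2 : y = z := h y (by simpa using h1.map e.symm.continuous)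
      subst h2
      exact (congrArg PrimeSpectrum.asIdeal hy).le
    · intro h y hy
      have h1 : (e y).asIdeal ≤ (e z).asIdeal :=
        (PrimeSpectrum.le_iff_specializes (e y) (e z)).2 (hy.map e.continuous)
      exact e.injective (PrimeSpectrum.ext (le_antisymm h1 (h.2 (e y).isPrime h1)))
  let φ := g.appTop
  have hnat : ∀ w, T.isoSpec.hom (g w) = PrimeSpectrum.comap φ.hom (W.isoSpec.hom w) := by
    intro w
    rw [← Scheme.Hom.comp_apply, ← Scheme.isoSpec_hom_naturality, Scheme.Hom.comp_apply]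
    rfl
  have hdφ : DenseRange (PrimeSpectrum.comap φ.hom) := by
    have h1 : DenseRange (T.isoSpec.hom ∘ g) :=
      T.isoSpec.hom.homeomorph.surjective.denseRange.comp hd T.isoSpec.hom.continuous
    refine Dense.mono ?_ h1
    rintro _ ⟨w, rfl⟩
    exact ⟨_, (hnat w).symm⟩
  obtain ⟨Q, hQ⟩ := (PrimeSpectrum.denseRange_comap_iff_minimalPrimes φ.hom).1 hdφ _ ((hgen t).1 ht)
  obtain ⟨w', hw'⟩ := W.isoSpec.hom.homeomorph.surjective Q
  have hgw : g w' = t := T.isoSpec.hom.homeomorph.injective ((hnat w').trans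
    ((congrArg (PrimeSpectrum.comap φ.hom) hw').trans hQ))
  obtain ⟨m, hm, hmle⟩ := Ideal.exists_minimalPrimes_le
    (show (⊥ : Ideal Γ(W, ⊤)) ≤ (W.isoSpec.hom w').asIdeal from bot_le)
  obtain ⟨w, hw⟩ := W.isoSpec.hom.homeomorph.surjective ⟨m, hm.1.1⟩
  refine ⟨w, (hgen w).2 ?_, ?_⟩
  · rw [show (W.isoSpec.hom w) = ⟨m, hm.1.1⟩ from hw]
    exact hm
  · have h1 : W.isoSpec.hom w ⤳ W.isoSpec.hom w' := by
      refine (PrimeSpectrum.le_iff_specializes _ _).1 ?_
      rw [show (W.isoSpec.hom w) = ⟨m, hm.1.1⟩ from hw]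
      exact hmle
    have h2 : w ⤳ w' := by
      have h3 := h1.map W.isoSpec.hom.homeomorph.symm.continuous
      rwa [show W.isoSpec.hom w = W.isoSpec.hom.homeomorph w from rfl,
        show W.isoSpec.hom w' = W.isoSpec.hom.homeomorph w' from rfl,
        Homeomorph.symm_apply_apply, Homeomorph.symm_apply_apply] at h3
    exact ht _ (hgw ▸ h2.map g.continuous)

theorem isIntegralMor_closedImmersion_comp {Z X Y : Sp S} {i : Z ⟶ X}
    (hi : RepWith @IsClosedImmersion i) {ν : X ⟶ Y} (hν : IsIntegralMor ν) :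
    IsIntegralMor (i ≫ ν) := by
  intro T hT a
  obtain ⟨W, w, fst, sq, hW, hwi⟩ := hν hT a
  obtain ⟨V, v, fst', sq', hv⟩ := repWith_exists hi fst
  haveI : IsClosedImmersion v.left := hv
  haveI := hW
  haveI := hwi
  exact ⟨V, v ≫ w, fst', by rw [Functor.map_comp]; exact sq'.paste_vert sq,
    isAffine_of_isAffineHom v.left, inferInstanceAs (IsIntegralHom (v.left ≫ w.left))⟩

/-- A point of codimension zero of the normalisation comes from one of the source. -/
theorem exists_codimZero {Y X X' : Space S} (f : Y ⟶ X) (hqc : AlgSp.IsQuasiCompactMor f.hom)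
    (ν : X' ⟶ X) (f' : Y ⟶ X') (hn : IsRelNormalization f.hom ν.hom f'.hom)
    (x' : Points X'.obj)
    (hx' : AlgSp.HasAt (fun U u => ringKrullDim ↥(U.presheaf.stalk u) = 0) X'.obj x') :
    ∃ y : Points Y.obj,
      AlgSp.HasAt (fun U u => ringKrullDim ↥(U.presheaf.stalk u) = 0) Y.obj y ∧
        Points.map f'.hom y = x' := by
  obtain ⟨hfac, hint, hump⟩ := hn
  have haff : AlgSp.IsAffineMor ν.hom := fun T hT a => by
    obtain ⟨W, w, fst, sq, hW, -⟩ := hint hT a
    exact ⟨W, w, fst, sq, hW⟩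
  have hqc' : AlgSp.IsQuasiCompactMor f'.hom :=
    Perm.isQuasiCompactMor_of_comp Y.property X'.property X.property.diag (g := ν.hom)
      (by rw [hfac]; exact hqc)
      (repWith_mono (AlgSpLimit.isSeparatedMor_of_isAffineMor X'.property haff)
        fun _ _ q (_ : IsClosedImmersion q) => (inferInstance : QuasiCompact q))
  -- the image of `f'` is dense
  obtain ⟨Z, i, hi⟩ := Groth.Agent.S9964.result f'
  obtain ⟨e, he⟩ := hi.2.1
  obtain ⟨h, ⟨hh₁, hh₂⟩, -⟩ := hump Z.property (i.hom ≫ ν.hom) e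
    (isIntegralMor_closedImmersion_comp hi.1 hint) (by rw [← Category.assoc, he, hfac])
  obtain ⟨u, -, huniq⟩ := hump X'.property ν.hom f'.hom hint hfac
  have hhi : h ≫ i.hom = 𝟙 X'.obj :=
    (huniq _ ⟨by rw [reassoc_of% hh₁, he], by rw [Category.assoc, hh₂]⟩).trans
      (huniq _ ⟨Category.comp_id _, Category.id_comp _⟩).symm
  have hdense : DenseRange (Points.map f'.hom) := fun z => by
    refine (Groth.Agent.S9965.result f' i hqc' hi).2 ⟨Points.map h z, ?_⟩
    rw [← Points.map_comp, hhi, Points.map_id]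
  -- a chart at the point
  obtain ⟨T, ξ, hT, hξ, t, rfl⟩ := exists_affine_chart X'.property x'
  haveI := hT
  have ht := (hasAt_dim0_iff X'.property hξ t).1 hx'
  have sq := IsPullback.of_hasPullback f'.hom ξ
  have hP : IsAlgSpace (pullback f'.hom ξ) :=
    isAlgSpace_of_isPullback sq X'.property.diag Y.property (IsAlgSpace.yon_obj T)
  haveI : CompactSpace (Points (pullback f'.hom ξ)) :=
    QC.compactSpace_of_isQuasiCompactMor hqc' sq
  obtain ⟨W, p, hW, hp, hps⟩ := QC.exists_affine_atlas hP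
  haveI := hW
  obtain ⟨g, hg⟩ := (yon S).map_surjective (p ≫ pullback.snd f'.hom ξ)
  have key : ∀ w, Points.ofPt ξ (g.left w) =
      Points.map f'.hom (Points.ofPt (p ≫ pullback.fst f'.hom ξ) w) := by
    intro w
    rw [Points.map_ofPt, Category.assoc, sq.w, ← Category.assoc, ← hg, ofPt_yon_map_comp]
  have hgd : DenseRange g.left := by
    refine Dense.mono ?_ (hdense.preimage (isOpenMap_ofPt hξ))
    rintro t' ⟨y, hy⟩
    obtain ⟨z, -, hz₂⟩ := exists_of_isPullback sq y (Points.ofScheme T t')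
      (by rw [hy, Points.ofPt_eq_map_ofScheme])
    obtain ⟨w, rfl⟩ := surjective_ofPt hps z
    refine ⟨w, ?_⟩
    rw [Points.map_ofPt, ← hg] at hz₂
    have := congrArg (Points.toScheme T) hz₂
    rwa [Points.toScheme_ofPt, Points.toScheme_ofScheme] at this
  obtain ⟨w, hw, rfl⟩ := exists_isGen_over g.left hgd ht
  haveI : MorphismProperty.IsStableUnderComposition @Etale.{u} :=
    ⟨fun f g (_ : Etale f) (_ : Etale g) ↦ inferInstanceAs (Etale (f ≫ g))⟩
  exact ⟨_, (hasAt_dim0_iff Y.property (repWith_comp hp (repWith_baseChange sq.flip hξ)) w).2 hw,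
    (key w).symm⟩

end Groth.Agent.Lib.AlgSpMor.RelNorm.CodimZero
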