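import Groth.Agent.Lib.AlgSpMor.RelNorm.Chart

/-!
# Existence of the relative normalisation of algebraic spaces
-/

set_option autoImplicit false
set_option linter.style.haveILetI false

universe u

open CategoryTheory CategoryTheory.Limits AlgebraicGeometry Opposite
open Groth.Agent.Lib.AlgSpace

namespace Groth.Agent.Lib.AlgSpMor.RelNorm

open AlgSp (Sp yon Representable RepWith IsAlgSpace LocP IsIntegralMor IsRelNormalization)

variable {S : Scheme.{u}} {X Y : Sp S}

attribute [local simp] pullback.lift_fst pullback.lift_snd pullback.lift_fst_assoc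
  pullback.lift_snd_assoc

/-- A compatible family of points of the normalisations on all charts. -/
structure Fam (f : Y ⟶ X) (T : Over S) : Type (u + 1) where
  x : (yon S).obj T ⟶ X
  s : ∀ (C : Chart f) (A : Over S) (p : A ⟶ T) (v : A ⟶ C.V),
    (yon S).map p ≫ x = (yon S).map v ≫ C.b → (A ⟶ C.N)
  hover : ∀ C A p v h, s C A p v h ≫ C.ν = v
  natA : ∀ C A p v h (A' : Over S) (q : A' ⟶ A) h', s C A' (q ≫ p) (q ≫ v) h' = q ≫ s C A p v h
  natC : ∀ C (C' : Chart f) (φ : ChartHom C C') A p v h h',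
    s C' A p (v ≫ φ.k) h' = s C A p v h ≫ φ.m

variable {f : Y ⟶ X} {T T' : Over S}

theorem Fam.ext' {F G : Fam f T} (hx : F.x = G.x)
    (hs : ∀ C A p v h h', F.s C A p v h = G.s C A p v h') : F = G := by
  obtain ⟨x, s, o, a, c⟩ := F
  obtain ⟨x', s', o', a', c'⟩ := G
  cases hx
  congr
  funext C A p v h
  exact hs C A p v h h

theorem Fam.s_congr (F : Fam f T) (C : Chart f) {A : Over S} {p p' : A ⟶ T} {v v' : A ⟶ C.V}
    (hp : p = p') (hv : v = v') (h : (yon S).map p ≫ F.x = (yon S).map v ≫ C.b)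
    (h' : (yon S).map p' ≫ F.x = (yon S).map v' ≫ C.b) : F.s C A p v h = F.s C A p' v' h' := by
  subst hp hv
  rfl

/-- Restriction of a family. -/
noncomputable def Fam.res (φ : T' ⟶ T) (F : Fam f T) : Fam f T' where
  x := (yon S).map φ ≫ F.x
  s C A p v h := F.s C A (p ≫ φ) v (by rw [Functor.map_comp, Category.assoc, h])
  hover C A p v h := F.hover ..
  natA C A p v h A' q h' := by
    rw [← F.natA C A (p ≫ φ) v _ A' q (by rw [← Category.assoc, Functor.map_comp, Category.assoc, h'])]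
    exact F.s_congr C (Category.assoc _ _ _) rfl _ _
  natC C C' ψ A p v h h' := F.natC ..

/-- The presheaf of compatible families. -/
noncomputable def famPsh (f : Y ⟶ X) : (Over S)ᵒᵖ ⥤ Type (u + 1) where
  obj T := Fam f T.unop
  map φ := ↾(Fam.res φ.unop)
  map_id T := by
    ext F : 3
    refine Fam.ext' ?_ fun C A p v h h' => ?_
    · change (yon S).map (𝟙 _) ≫ F.x = F.x
      simp
    · exact F.s_congr C (Category.comp_id p) rfl _ _
  map_comp φ ψ := by
    ext F : 3
    refine Fam.ext' ?_ fun C A p v h h' => ?_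
    · change (yon S).map (ψ.unop ≫ φ.unop) ≫ F.x = (yon S).map ψ.unop ≫ (yon S).map φ.unop ≫ F.x
      simp
    · exact F.s_congr C (Category.assoc p _ _).symm rfl _ _

theorem isSheaf_famPsh : Presheaf.IsSheaf (AlgSp.J S) (famPsh f) := by
  rw [isSheaf_iff_isSheaf_of_type]
  intro T R hR fam hfam
  let ι := Σ Z : Over S, {g : Z ⟶ T // R g}
  let Z : ι → Over S := fun i => i.1
  let g : ∀ i : ι, Z i ⟶ T := fun i => i.2.1
  have hcov : Sieve.ofArrows Z g ∈ AlgSp.J S T :=
    (AlgSp.J S).superset_covering (fun W e he => Sieve.ofArrows_mk Z g (⟨W, e, he⟩ : ι)) hR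
  let F : ∀ i : ι, Fam f (Z i) := fun i => fam i.2.1 i.2.2
  have red : ∀ (i : ι) {W : Over S} (e : W ⟶ Z i),
      fam (e ≫ g i) (R.downward_closed i.2.2 e) = (F i).res e := fun i W e =>
    Presieve.compatible_iff_sieveCompatible _ |>.1 hfam i.2.1 e i.2.2
  obtain ⟨x, hx, hxu⟩ := exists_desc_of_family Z g hcov (fun i => (F i).x) (fun i j W gi gj e => by
    change ((F i).res gi).x = ((F j).res gj).x
    rw [← red, ← red]
    congr 2)
  -- the value on a chart
  have famS : ∀ (C : Chart f) (W : Over S) (p p' : W ⟶ T) (hp : R p) (hp' : R p') (v v' : W ⟶ C.V),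
      p = p' → v = v' → ∀ h₁ h₂,
      (fam p hp).s C W (𝟙 W) v h₁ = (fam p' hp').s C W (𝟙 W) v' h₂ := by
    intro C W p p' hp hp' v v' e e' h₁ h₂
    subst e e'
    rfl
  have key : ∀ (C : Chart f) (A : Over S) (p : A ⟶ T) (v : A ⟶ C.V),
      (yon S).map p ≫ x = (yon S).map v ≫ C.b → ∃! n : A ⟶ C.N, ∀ (A' : Over S) (q : A' ⟶ A)
        (hq : R (q ≫ p)) h', q ≫ n = (fam (q ≫ p) hq).s C A' (𝟙 A') (q ≫ v) h' := by
    intro C A p v h
    let ι' := Σ A' : Over S, {q : A' ⟶ A // R (q ≫ p)}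
    have hcov' : Sieve.ofArrows (fun i : ι' => i.1) (fun i => i.2.1) ∈ AlgSp.J S A :=
      (AlgSp.J S).superset_covering
        (fun W e he => Sieve.ofArrows_mk (fun i : ι' => i.1) (fun i => i.2.1) (⟨W, e, he⟩ : ι'))
        ((AlgSp.J S).pullback_stable p hR)
    have hh : ∀ (A' : Over S) (q : A' ⟶ A) (hq : R (q ≫ p)),
        (yon S).map (𝟙 A') ≫ (fam (q ≫ p) hq).x = (yon S).map (q ≫ v) ≫ C.b := by
      intro A' q hq
      rw [show (fam (q ≫ p) hq).x = (yon S).map (q ≫ p) ≫ x from (hx ⟨A', q ≫ p, hq⟩).symm]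
      simp [h]
    have hc : ∀ (i : ι') (W : Over S) (e : W ⟶ i.1) h',
        e ≫ (fam (i.2.1 ≫ p) i.2.2).s C i.1 (𝟙 i.1) (i.2.1 ≫ v) (hh _ _ i.2.2) =
          (fam ((e ≫ i.2.1) ≫ p)
            (by rw [Category.assoc]; exact R.downward_closed i.2.2 e)).s C W (𝟙 W)
            ((e ≫ i.2.1) ≫ v) h' := by
      intro i W e h'
      have := red ⟨_, i.2.1 ≫ p, i.2.2⟩ e
      have e' : fam ((e ≫ i.2.1) ≫ p) (by rw [Category.assoc]; exact R.downward_closed i.2.2 e) =
          (F ⟨_, i.2.1 ≫ p, i.2.2⟩).res e := by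
        rw [← this]
        congr 1

      have key : ∀ (G : Fam f W) (hG : fam ((e ≫ i.2.1) ≫ p)
            (by rw [Category.assoc]; exact R.downward_closed i.2.2 e) = G)
          (hh' : (yon S).map (𝟙 W) ≫ G.x = (yon S).map ((e ≫ i.2.1) ≫ v) ≫ C.b),
          (fam ((e ≫ i.2.1) ≫ p) (by rw [Category.assoc]; exact R.downward_closed i.2.2 e)).s C W
            (𝟙 W) ((e ≫ i.2.1) ≫ v) h' = G.s C W (𝟙 W) ((e ≫ i.2.1) ≫ v) hh' := by
        intro G hG hh'; subst hG; rfl
      rw [key _ e' (by rw [← e']; exact h')]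
      rw [← (F ⟨_, i.2.1 ≫ p, i.2.2⟩).natA C i.1 (𝟙 i.1) (i.2.1 ≫ v) _ W e (by
        have := hh _ _ i.2.2
        simp only [Functor.map_comp, CategoryTheory.Functor.map_id, Category.assoc,
          Category.id_comp] at this ⊢
        rw [this])]
      exact (F ⟨_, i.2.1 ≫ p, i.2.2⟩).s_congr C (by simp) (by simp) _ _
    obtain ⟨n, hn, hnu⟩ := exists_desc_of_family (fun i : ι' => i.1) (fun i => i.2.1) hcov'
      (fun i => (yon S).map ((fam (i.2.1 ≫ p) i.2.2).s C i.1 (𝟙 i.1) (i.2.1 ≫ v) (hh _ _ i.2.2)))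
      (fun i j W gi gj e => by
        rw [← Functor.map_comp, ← Functor.map_comp, hc i W gi (hh _ _ _), hc j W gj (hh _ _ _)]
        exact congrArg _ (famS C W _ _ _ _ _ _ (by rw [e]) (by rw [e]) _ _))
    obtain ⟨n, rfl⟩ := (yon S).map_surjective n
    refine ⟨n, fun A' q hq h' => (yon S).map_injective (by
      rw [Functor.map_comp]; exact hn ⟨A', q, hq⟩), fun n' hn' => (yon S).map_injective
        (hnu _ fun i => by rw [← Functor.map_comp, hn' i.1 i.2.1 i.2.2 (hh _ _ _)])⟩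
  choose s hs hsu using key
  have cov2 : ∀ {A : Over S} (p : A ⟶ T) {V : Over S} (a b : A ⟶ V),
      (∀ (A' : Over S) (q : A' ⟶ A), R (q ≫ p) → q ≫ a = q ≫ b) → a = b := by
    intro A p V a b hab
    refine (yon S).map_injective (hom_ext_of_family
      (fun i : (Σ A' : Over S, {q : A' ⟶ A // R (q ≫ p)}) => i.1) (fun i => i.2.1)
      ((AlgSp.J S).superset_covering (fun W e he => Sieve.ofArrows_mk
        (fun i : (Σ A' : Over S, {q : A' ⟶ A // R (q ≫ p)}) => i.1) (fun i => i.2.1) ⟨W, e, he⟩)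
        ((AlgSp.J S).pullback_stable p hR)) fun i => ?_)
    rw [← Functor.map_comp, ← Functor.map_comp, hab i.1 i.2.1 i.2.2]
  have hh : ∀ (C : Chart f) (A : Over S) (p : A ⟶ T) (v : A ⟶ C.V)
      (_ : (yon S).map p ≫ x = (yon S).map v ≫ C.b) (A' : Over S) (q : A' ⟶ A) (hq : R (q ≫ p)),
      (yon S).map (𝟙 A') ≫ (fam (q ≫ p) hq).x = (yon S).map (q ≫ v) ≫ C.b := by
    intro C A p v h A' q hq
    rw [show (fam (q ≫ p) hq).x = (yon S).map (q ≫ p) ≫ x from (hx ⟨A', q ≫ p, hq⟩).symm]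
    simp [h]
  let G : Fam f T :=
    { x := x
      s := fun C A p v h => s C A p v h
      hover := fun C A p v h => cov2 p _ _ fun A' q hq => by
        rw [← Category.assoc, hs C A p v h A' q hq (hh C A p v h A' q hq)]
        exact (fam (q ≫ p) hq).hover ..
      natA := fun C A p v h A' q h' => cov2 (q ≫ p) _ _ fun A'' q' hq => by
        have hq' : R ((q' ≫ q) ≫ p) := by rwa [Category.assoc]
        rw [hs C A' (q ≫ p) (q ≫ v) h' A'' q' hq (hh C A' _ _ h' A'' q' hq)]
        refine Eq.trans ?_ ((hs C A p v h A'' (q' ≫ q) hq' (hh C A p v h A'' _ hq')).symm.trans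
          (Category.assoc _ _ _))
        exact famS _ _ _ _ _ _ _ _ (Category.assoc _ _ _).symm (Category.assoc _ _ _).symm _ _
      natC := fun C C' φ A p v h h' => cov2 p _ _ fun A' q hq => by
        rw [hs C' A p (v ≫ φ.k) h' A' q hq (hh C' A p _ h' A' q hq)]
        refine Eq.trans ?_ ((congrArg (· ≫ φ.m) (hs C A p v h A' q hq (hh C A p v h A' q hq))).symm.trans
          (Category.assoc _ _ _))
        rw [← (fam (q ≫ p) hq).natC C C' φ A' (𝟙 A') (q ≫ v) _
            (by rw [Category.assoc]; exact hh C' A p _ h' A' q hq)]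
        exact Fam.s_congr _ C' rfl (Category.assoc _ _ _).symm _ _ }
  refine ⟨G, fun W e he => ?_, fun H hH => ?_⟩
  · refine Fam.ext' (hx ⟨W, e, he⟩) fun C A p v h h' => ?_
    have h₀ : (yon S).map (p ≫ e) ≫ x = (yon S).map v ≫ C.b := by
      rw [Functor.map_comp, Category.assoc]; exact h
    have hR' : R (p ≫ e) := R.downward_closed he p
    have hR'' : R (𝟙 A ≫ p ≫ e) := by rwa [Category.id_comp]
    change s C A (p ≫ e) v h₀ = _
    have := hs C A (p ≫ e) v h₀ A (𝟙 A) hR'' (hh C A _ v h₀ A _ hR'')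
    rw [Category.id_comp] at this
    refine this.trans ?_
    have e1 : fam (𝟙 A ≫ p ≫ e) hR'' = (fam e he).res p := by
      refine Eq.trans ?_ (red ⟨W, e, he⟩ p)
      congr 1
    have key : ∀ (G' : Fam f A) (_ : fam (𝟙 A ≫ p ≫ e) hR'' = G') h₁ h₂,
        (fam (𝟙 A ≫ p ≫ e) hR'').s C A (𝟙 A) (𝟙 A ≫ v) h₁ = G'.s C A (𝟙 A) (𝟙 A ≫ v) h₂ := by
      intro G' hG h₁ h₂; subst hG; rfl
    rw [key _ e1 _ (by rw [← e1]; exact hh C A _ v h₀ A _ hR'')]
    exact Fam.s_congr _ C (Category.id_comp p) (Category.id_comp v) _ _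
  · have hxH : H.x = x := hxu _ fun i => congrArg Fam.x (hH i.2.1 i.2.2)
    refine Fam.ext' hxH fun C A p v h h' => ?_
    refine hsu C A p v h' _ fun A' q hq h'' => ?_
    rw [← H.natA C A p v h A' q (by
      rw [hxH, Functor.map_comp, Category.assoc, h', Functor.map_comp, Category.assoc])]
    have key : ∀ (G' : Fam f A') (_ : fam (q ≫ p) hq = G') h₂,
        (fam (q ≫ p) hq).s C A' (𝟙 A') (q ≫ v) h'' = G'.s C A' (𝟙 A') (q ≫ v) h₂ := by
      intro G' hG h₂; subst hG; rfl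
    rw [key _ (hH (q ≫ p) hq).symm (by rw [hH (q ≫ p) hq]; exact h'')]
    exact Fam.s_congr _ C (Category.id_comp _).symm rfl _ _

/-- The relative normalisation as a sheaf. -/
noncomputable def normSp (f : Y ⟶ X) : Sp S := ⟨famPsh f, isSheaf_famPsh⟩

/-- Maps from schemes to the relative normalisation. -/
noncomputable def toFam (a : (yon S).obj T ⟶ normSp f) : Fam f T := secEquiv T a

/-- The map from a scheme given by a family. -/
noncomputable def ofFam (F : Fam f T) : (yon S).obj T ⟶ normSp f :=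
  (secEquiv (F := normSp f) T).symm F

theorem toFam_ofFam (F : Fam f T) : toFam (ofFam F) = F := Equiv.apply_symm_apply _ _

theorem toFam_injective {a b : (yon S).obj T ⟶ normSp f} (h : toFam a = toFam b) : a = b :=
  (secEquiv T).injective h

theorem toFam_map (q : T' ⟶ T) (a : (yon S).obj T ⟶ normSp f) :
    toFam ((yon S).map q ≫ a) = (toFam a).res q :=
  secEquiv_map q a

/-- The projection. -/
noncomputable def normProj (f : Y ⟶ X) : normSp f ⟶ X :=
  homMkYon (fun _ a => (toFam a).x) (fun q a => by rw [toFam_map]; rfl)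

theorem comp_normProj (a : (yon S).obj T ⟶ normSp f) : a ≫ normProj f = (toFam a).x :=
  comp_homMkYon _ (fun q a => by rw [toFam_map]; rfl) a

section

variable (hX : IsAlgSpace X) (C₀ C : Chart f)

/-- The fibre product of two charts, as a scheme. -/
noncomputable def Rel : Over S := (representable_from_yon hX.diag C.b).pullback C₀.b

/-- Its projection to the second chart. -/
noncomputable def r₀ : Rel hX C₀ C ⟶ C₀.V := (representable_from_yon hX.diag C.b).snd C₀.b

/-- Its projection to the first chart. -/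
noncomputable def r₁ : Rel hX C₀ C ⟶ C.V := (representable_from_yon hX.diag C.b).fst' C₀.b

theorem isPullback_rel :
    IsPullback ((yon S).map (r₁ hX C₀ C)) ((yon S).map (r₀ hX C₀ C)) C.b C₀.b :=
  (representable_from_yon hX.diag C.b).isPullback' C₀.b

/-- The chart on the fibre product. -/
noncomputable def relChart : Chart f :=
  C₀.bc (r₀ hX C₀ C) (repWith_property C.etale (isPullback_rel hX C₀ C))

/-- The map to the first chart. -/
noncomputable def relHom : ChartHom (relChart hX C₀ C) C :=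
  ChartHom.mk' _ _ (r₁ hX C₀ C) (isPullback_rel hX C₀ C).w

/-- The map to the second chart. -/
noncomputable def relHom₀ : ChartHom (relChart hX C₀ C) C₀ := C₀.bcHom _ _

end

/-- The point of the chart on the fibre product defined by a point of a chart. -/
noncomputable def relPoint (hX : IsAlgSpace X) (C₀ C : Chart f) {A : Over S} (n : A ⟶ C₀.N)
    (v : A ⟶ C.V) (h : (yon S).map v ≫ C.b = (yon S).map (n ≫ C₀.ν) ≫ C₀.b) :
    A ⟶ (relChart hX C₀ C).N :=
  Limits.pullback.lift n ((yon S).preimage ((isPullback_rel hX C₀ C).lift ((yon S).map v)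
    ((yon S).map (n ≫ C₀.ν)) h)) (by
      apply (yon S).map_injective
      simp only [Functor.map_comp, Functor.map_preimage, IsPullback.lift_snd])

@[simp]
theorem relPoint_fst (hX : IsAlgSpace X) (C₀ C : Chart f) {A : Over S} (n : A ⟶ C₀.N)
    (v : A ⟶ C.V) (h) :
    relPoint hX C₀ C n v h ≫ (relHom₀ hX C₀ C).m = n :=
  Limits.pullback.lift_fst _ _ _

theorem relPoint_r₁ (hX : IsAlgSpace X) (C₀ C : Chart f) {A : Over S} (n : A ⟶ C₀.N)
    (v : A ⟶ C.V) (h) :
    relPoint hX C₀ C n v h ≫ (relChart hX C₀ C).ν ≫ r₁ hX C₀ C = v := by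
  apply (yon S).map_injective
  rw [show relPoint hX C₀ C n v h ≫ (relChart hX C₀ C).ν ≫ r₁ hX C₀ C =
    (yon S).preimage ((isPullback_rel hX C₀ C).lift ((yon S).map v)
      ((yon S).map (n ≫ C₀.ν)) h) ≫ r₁ hX C₀ C from Limits.pullback.lift_snd_assoc _ _ _ _]
  simp only [Functor.map_comp, Functor.map_preimage, IsPullback.lift_fst]

theorem relPoint_ext (hX : IsAlgSpace X) (C₀ C : Chart f) {A : Over S}
    {m m' : A ⟶ (relChart hX C₀ C).N}
    (h₀ : m ≫ (relHom₀ hX C₀ C).m = m' ≫ (relHom₀ hX C₀ C).m)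
    (h₁ : m ≫ (relChart hX C₀ C).ν ≫ r₁ hX C₀ C = m' ≫ (relChart hX C₀ C).ν ≫ r₁ hX C₀ C) :
    m = m' := by
  refine Limits.pullback.hom_ext h₀ ((yon S).map_injective ((isPullback_rel hX C₀ C).hom_ext ?_ ?_))
  · rw [← Functor.map_comp, ← Functor.map_comp]
    exact congrArg _ ((Category.assoc _ _ _).trans (h₁.trans (Category.assoc _ _ _).symm))
  · rw [← Functor.map_comp, ← Functor.map_comp]
    have e : Limits.pullback.snd C₀.ν (r₀ hX C₀ C) ≫ r₀ hX C₀ C =
        Limits.pullback.fst C₀.ν (r₀ hX C₀ C) ≫ C₀.ν := pullback.condition.symm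
    refine congrArg _ ((Category.assoc _ _ _).trans (((congrArg (m ≫ ·) e).trans ?_).trans
      ((congrArg (m' ≫ ·) e).symm.trans (Category.assoc _ _ _).symm)))
    exact (Category.assoc _ _ _).symm.trans ((congrArg (· ≫ C₀.ν) h₀).trans (Category.assoc _ _ _))

/-- The family of a point of the normalisation on a chart. -/
noncomputable def famOfPoint (hX : IsAlgSpace X) (C₀ : Chart f) (n : T ⟶ C₀.N) : Fam f T where
  x := (yon S).map (n ≫ C₀.ν) ≫ C₀.b
  s C A p v h := relPoint hX C₀ C (p ≫ n) v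
    (by rw [← h]; simp) ≫ (relHom hX C₀ C).m
  hover C A p v h := by
    rw [Category.assoc, (relHom hX C₀ C).hm]
    exact relPoint_r₁ hX C₀ C _ v _
  natA C A p v h A' q' h' := by
    rw [← Category.assoc q']
    congr 1
    apply relPoint_ext
    · simp only [relPoint_fst, Category.assoc]
    · rw [relPoint_r₁]
      exact ((Category.assoc q' _ _).trans (congrArg (q' ≫ ·) (relPoint_r₁ hX C₀ C _ v _))).symm
  natC C C' φ A p v h h' := by
    let kR : Rel hX C₀ C ⟶ Rel hX C₀ C' := (yon S).preimage ((isPullback_rel hX C₀ C').lift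
      ((yon S).map (r₁ hX C₀ C ≫ φ.k)) ((yon S).map (r₀ hX C₀ C))
      (by rw [Functor.map_comp, Category.assoc, φ.hk]; exact (isPullback_rel hX C₀ C).w))
    have hk0 : kR ≫ r₀ hX C₀ C' = r₀ hX C₀ C := (yon S).map_injective (by
      simp only [kR, Functor.map_comp, Functor.map_preimage, IsPullback.lift_snd])
    have hk1 : kR ≫ r₁ hX C₀ C' = r₁ hX C₀ C ≫ φ.k := (yon S).map_injective (by
      simp only [kR, Functor.map_comp, Functor.map_preimage, IsPullback.lift_fst])
    have hkb : (yon S).map kR ≫ (relChart hX C₀ C').b = (relChart hX C₀ C).b := by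
      show (yon S).map kR ≫ (yon S).map (r₀ hX C₀ C') ≫ C₀.b = (yon S).map (r₀ hX C₀ C) ≫ C₀.b
      rw [← Functor.map_comp_assoc, hk0]
    let ψ := ChartHom.mk' (relChart hX C₀ C) (relChart hX C₀ C') kR hkb
    have e0 : ψ.m ≫ (relHom₀ hX C₀ C').m = (relHom₀ hX C₀ C).m :=
      ChartHom.m_eq_of_k_eq (ψ.comp (relHom₀ hX C₀ C')) (relHom₀ hX C₀ C) hk0
    have e1 : ψ.m ≫ (relHom hX C₀ C').m = (relHom hX C₀ C).m ≫ φ.m :=
      ChartHom.m_eq_of_k_eq (ψ.comp (relHom hX C₀ C')) ((relHom hX C₀ C).comp φ) hk1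
    refine Eq.trans ?_ ((Category.assoc _ _ _).trans
      ((congrArg (relPoint hX C₀ C (p ≫ n) v _ ≫ ·) e1.symm))).symm
    refine Eq.trans ?_ (Category.assoc _ _ _)
    refine congrArg (· ≫ (relHom hX C₀ C').m) ?_
    apply relPoint_ext
    · rw [relPoint_fst, Category.assoc, e0, relPoint_fst]
    · rw [relPoint_r₁, Category.assoc]
      refine Eq.trans ?_ (congrArg (relPoint hX C₀ C (p ≫ n) v _ ≫ ·)
        ((Category.assoc _ _ _).symm.trans ((congrArg (· ≫ r₁ hX C₀ C') ψ.hm).trans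
          ((Category.assoc _ _ _).trans (congrArg ((relChart hX C₀ C).ν ≫ ·) hk1))))).symm
      exact (congrArg (· ≫ φ.k) (relPoint_r₁ hX C₀ C (p ≫ n) v _).symm).trans
        ((Category.assoc _ _ _).trans (congrArg _ (Category.assoc _ _ _)))

/-- The section on the identity of a chart gives back the point. -/
theorem famOfPoint_s_self (hX : IsAlgSpace X) (C₀ : Chart f) (n : T ⟶ C₀.N) (h) :
    (famOfPoint hX C₀ n).s C₀ T (𝟙 T) (n ≫ C₀.ν) h = n := by
  let δ : C₀.V ⟶ Rel hX C₀ C₀ := (yon S).preimage ((isPullback_rel hX C₀ C₀).lift (𝟙 _) (𝟙 _) rfl)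
  have hd0 : δ ≫ r₀ hX C₀ C₀ = 𝟙 _ := (yon S).map_injective (by
    simp only [δ, Functor.map_comp, Functor.map_preimage, IsPullback.lift_snd,
      CategoryTheory.Functor.map_id])
  have hd1 : δ ≫ r₁ hX C₀ C₀ = 𝟙 _ := (yon S).map_injective (by
    simp only [δ, Functor.map_comp, Functor.map_preimage, IsPullback.lift_fst,
      CategoryTheory.Functor.map_id])
  have hdb : (yon S).map δ ≫ (relChart hX C₀ C₀).b = C₀.b := by
    show (yon S).map δ ≫ (yon S).map (r₀ hX C₀ C₀) ≫ C₀.b = C₀.b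
    rw [← Functor.map_comp_assoc, hd0, CategoryTheory.Functor.map_id, Category.id_comp]
  let ψ := ChartHom.mk' C₀ (relChart hX C₀ C₀) δ hdb
  have e0 : ψ.m ≫ (relHom₀ hX C₀ C₀).m = 𝟙 _ :=
    ChartHom.m_eq_of_k_eq (ψ.comp (relHom₀ hX C₀ C₀)) (ChartHom.id C₀) hd0
  have e1 : ψ.m ≫ (relHom hX C₀ C₀).m = 𝟙 _ :=
    ChartHom.m_eq_of_k_eq (ψ.comp (relHom hX C₀ C₀)) (ChartHom.id C₀) hd1
  change relPoint hX C₀ C₀ (𝟙 T ≫ n) (n ≫ C₀.ν) _ ≫ (relHom hX C₀ C₀).m = n
  rw [show relPoint hX C₀ C₀ (𝟙 T ≫ n) (n ≫ C₀.ν) _ = n ≫ ψ.m from ?_, Category.assoc, e1,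
    Category.comp_id]
  apply relPoint_ext
  · rw [relPoint_fst, Category.assoc, e0, Category.comp_id, Category.id_comp]
  · rw [relPoint_r₁, Category.assoc]
    refine congrArg (n ≫ ·) ?_
    exact ((Category.assoc _ _ _).symm.trans ((congrArg (· ≫ r₁ hX C₀ C₀) ψ.hm).trans
      ((Category.assoc _ _ _).trans ((congrArg (C₀.ν ≫ ·) hd1).trans (Category.comp_id _))))).symm

/-- A family over a chart is determined by its section on that chart. -/
theorem eq_famOfPoint (hX : IsAlgSpace X) (C₀ : Chart f) (F : Fam f T) (v₀ : T ⟶ C₀.V)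
    (hF : F.x = (yon S).map v₀ ≫ C₀.b) (h) :
    F = famOfPoint hX C₀ (F.s C₀ T (𝟙 T) v₀ h) := by
  have hx : F.x = (famOfPoint hX C₀ (F.s C₀ T (𝟙 T) v₀ h)).x := by
    show F.x = (yon S).map (F.s C₀ T (𝟙 T) v₀ h ≫ C₀.ν) ≫ C₀.b
    rw [F.hover, hF]
  refine Fam.ext' hx fun C A p v hv hv' => ?_
  let q : A ⟶ Rel hX C₀ C := (yon S).preimage ((isPullback_rel hX C₀ C).lift ((yon S).map v)
    ((yon S).map (p ≫ v₀)) (by rw [← hv, hF, Functor.map_comp, Category.assoc]))
  have hq0 : q ≫ r₀ hX C₀ C = p ≫ v₀ := (yon S).map_injective (by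
    simp only [q, Functor.map_comp, Functor.map_preimage, IsPullback.lift_snd])
  have hq1 : q ≫ r₁ hX C₀ C = v := (yon S).map_injective (by
    simp only [q, Functor.map_comp, Functor.map_preimage, IsPullback.lift_fst])
  have hqb : (yon S).map p ≫ F.x = (yon S).map q ≫ (relChart hX C₀ C).b := by
    show _ = (yon S).map q ≫ (yon S).map (r₀ hX C₀ C) ≫ C₀.b
    rw [← Functor.map_comp_assoc, hq0, hF, Functor.map_comp, Category.assoc]
  have hq1' : q ≫ (relHom hX C₀ C).k = v := hq1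
  have hq0' : q ≫ (relHom₀ hX C₀ C).k = p ≫ v₀ := hq0
  have hc1 : (yon S).map p ≫ F.x = (yon S).map (q ≫ (relHom hX C₀ C).k) ≫ C.b :=
    hv.trans (congrArg (fun m => (yon S).map m ≫ C.b) hq1'.symm)
  have hc0' : (yon S).map p ≫ F.x = (yon S).map (p ≫ v₀) ≫ C₀.b := by
    rw [hF, Functor.map_comp, Category.assoc]
  have hc0 : (yon S).map p ≫ F.x = (yon S).map (q ≫ (relHom₀ hX C₀ C).k) ≫ C₀.b :=
    hc0'.trans (congrArg (fun m => (yon S).map m ≫ C₀.b) hq0'.symm)
  refine ((F.s_congr C rfl hq1' hc1 hv).symm.trans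
    (F.natC _ _ (relHom hX C₀ C) A p q hqb hc1)).trans ?_
  change _ = relPoint hX C₀ C _ v _ ≫ _
  congr 1
  apply relPoint_ext
  · rw [relPoint_fst]
    refine (F.natC _ _ (relHom₀ hX C₀ C) A p q hqb hc0).symm.trans ?_
    refine Eq.trans (F.s_congr C₀ (Category.comp_id p).symm hq0' _ ?_) (F.natA C₀ T (𝟙 T) v₀ h A p ?_)
    all_goals rw [Category.comp_id]; exact hc0'
  · exact Eq.trans ((Category.assoc _ _ _).symm.trans ((congrArg (· ≫ r₁ hX C₀ C) (F.hover _ _ _ _ _)).trans hq1)) (relPoint_r₁ hX C₀ C _ v _).symm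

end Groth.Agent.Lib.AlgSpMor.RelNorm
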