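import Groth.Agent.Lib.AlgSpMor.RelNorm.Main
import Groth.Agent.Lib.AlgSpMor.LqfScheme
import Groth.Agent.Lib.AlgSpMor.Proper
import Mathlib.AlgebraicGeometry.ZariskisMainTheorem

/-!
# A finite clopen piece etale locally at a quasi-finite point
-/

set_option autoImplicit false
set_option linter.style.haveILetI false

universe u

open CategoryTheory CategoryTheory.Limits AlgebraicGeometry Opposite
open Groth.Agent.Lib.AlgSpace

namespace Groth.Agent.Lib.AlgSpMor.RelNorm

open AlgSp (Sp yon Representable RepWith IsAlgSpace LocP IsIntegralMor IsRelNormalization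
  IsSeparatedMor)

variable {S : Scheme.{u}}

/-- Etale neighbourhoods over which a quasi-finite point lies in a finite piece. -/
theorem exists_nbhd_at {U T : Over S} [IsAffine U.left] [IsAffine T.left] (m : U ⟶ T)
    [LocallyOfFiniteType m.left] (x : U.left) (hx : m.left.QuasiFiniteAt x) :
    ∃ (T₁ V₁ : Over S) (g₁ : T₁ ⟶ T) (i : V₁ ⟶ pullback m g₁), IsAffine T₁.left ∧
      Etale g₁.left ∧ IsAffine V₁.left ∧ IsOpenImmersion i.left ∧
      IsFinite (i ≫ pullback.snd m g₁).left ∧ ∃ v, (i ≫ pullback.fst m g₁).left v = x := by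
  obtain ⟨T', g, _, -, V, W, v, -, hfin, hv⟩ :=
    exists_etale_isCompl_of_quasiFiniteAt m.left rfl hx
  obtain ⟨W₀, hW₀, ht, -⟩ := exists_isAffineOpen_mem_and_subset
    (U := ⊤) (Set.mem_univ (pullback.snd m.left g v.1))
  let T₁ : Over S := Over.mk (W₀.ι ≫ g ≫ T.hom)
  let g₁ : T₁ ⟶ T := Over.homMk (W₀.ι ≫ g) (by simp [T₁])
  have : IsAffine T₁.left := hW₀
  have : Etale g₁.left := inferInstanceAs (Etale (W₀.ι ≫ g))
  have sqL : IsPullback (pullback.fst m g₁).left (pullback.snd m g₁).left m.left (W₀.ι ≫ g) :=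
    (IsPullback.of_hasPullback m g₁).map (Over.forget S)
  let k : (pullback m g₁).left ⟶ pullback m.left g :=
    pullback.lift (pullback.fst m g₁).left ((pullback.snd m g₁).left ≫ W₀.ι)
      (by rw [Category.assoc]; exact sqL.w)
  have sqk : IsPullback k (pullback.snd m g₁).left (pullback.snd m.left g) W₀.ι := by
    refine IsPullback.of_right ?_ (pullback.lift_snd _ _ _) (IsPullback.of_hasPullback m.left g)
    rw [pullback.lift_fst]
    exact sqL
  have : IsOpenImmersion k := MorphismProperty.of_isPullback (P := @IsOpenImmersion) sqk.flip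
    (inferInstance : IsOpenImmersion W₀.ι)
  let V₁ : (pullback m g₁).left.Opens := k ⁻¹ᵁ V
  have hfin₁ : IsFinite (V₁.ι ≫ (pullback.snd m g₁).left) :=
    MorphismProperty.of_isPullback (P := @IsFinite)
      ((isPullback_morphismRestrict k V).paste_vert sqk) hfin
  let V₁' : Over S := Over.mk (V₁.ι ≫ (pullback m g₁).hom)
  let i : V₁' ⟶ pullback m g₁ := Over.homMk V₁.ι
  have : IsFinite (i ≫ pullback.snd m g₁).left := hfin₁
  obtain ⟨z, hz, -⟩ := LqfScheme.exists_point sqk v.1 (⟨_, ht⟩ : W₀) rfl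
  have hzV : z ∈ V₁ := show k z ∈ V by rw [hz]; exact v.2
  refine ⟨T₁, V₁', g₁, i, ‹_›, ‹_›, isAffine_of_isAffineHom (i ≫ pullback.snd m g₁).left,
    inferInstanceAs (IsOpenImmersion V₁.ι), ‹_›, ⟨z, hzV⟩, ?_⟩
  show (pullback.fst m g₁).left z = x
  rw [← hv, ← hz, ← Scheme.Hom.comp_apply, pullback.lift_fst]

/-- A quasi-finite point of a separated space lies, etale locally on the base, in a finite clopen
subscheme. -/
theorem exists_finite_clopen {T U : Over S} [IsAffine T.left] [IsAffine U.left] {X : Sp S}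
    (hX : IsAlgSpace X) {f : X ⟶ (yon S).obj T} (hsep : IsSeparatedMor f)
    {a : (yon S).obj U ⟶ X} (ha : RepWith @Etale a) {m : U ⟶ T} (hm : a ≫ f = (yon S).map m)
    [LocallyOfFiniteType m.left] (x : U.left) (hx : m.left.QuasiFiniteAt x) :
    ∃ (T₁ : Over S) (g₁ : T₁ ⟶ T) (Q : Over S) (τ : Q ⟶ T₁)
      (l : (yon S).obj Q ⟶ pullback f ((yon S).map g₁)),
      IsAffine T₁.left ∧ Etale g₁.left ∧ IsFinite τ.left ∧
      l ≫ pullback.snd f ((yon S).map g₁) = (yon S).map τ ∧ RepWith @IsOpenImmersion l ∧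
      IsClosed (Set.range (AlgSp.Points.map l)) ∧
      AlgSp.Points.ofPt a x ∈
        Set.range (AlgSp.Points.map (l ≫ pullback.fst f ((yon S).map g₁))) := by
  obtain ⟨T₁, V₁, g₁, i, _, _, _, _, _, v, hv⟩ := exists_nbhd_at m x hx
  let U₁ : Over S := Limits.pullback m g₁
  let σ : U₁ ⟶ U := Limits.pullback.fst m g₁
  let m₁ : U₁ ⟶ T₁ := Limits.pullback.snd m g₁
  let X₁ : Sp S := pullback f ((yon S).map g₁)
  let f₁ : X₁ ⟶ (yon S).obj T₁ := pullback.snd f ((yon S).map g₁)
  let pr : X₁ ⟶ X := pullback.fst f ((yon S).map g₁)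
  have sqX₁ : IsPullback pr f₁ f ((yon S).map g₁) := IsPullback.of_hasPullback _ _
  have hX₁ : IsAlgSpace X₁ :=
    isAlgSpace_of_isPullback sqX₁ (IsAlgSpace.yon_obj T).diag hX (IsAlgSpace.yon_obj T₁)
  have hsep₁ : IsSeparatedMor f₁ := Sep.repWith_diagonal_baseChange sqX₁ hsep
  obtain ⟨a₁, ha₁f, ha₁p⟩ : ∃ a₁ : (yon S).obj U₁ ⟶ X₁, a₁ ≫ f₁ = (yon S).map m₁ ∧
      a₁ ≫ pr = (yon S).map σ ≫ a :=
    ⟨pullback.lift ((yon S).map σ ≫ a) ((yon S).map m₁) (by
      rw [Category.assoc, hm, ← Functor.map_comp, ← Functor.map_comp, pullback.condition]),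
      pullback.lift_snd _ _ _, pullback.lift_fst _ _ _⟩
  have sqa : IsPullback ((yon S).map σ) a₁ a pr := by
    refine IsPullback.of_bot ?_ ha₁p.symm sqX₁
    rw [ha₁f, hm]
    exact isPullback_yon (IsPullback.of_hasPullback m g₁)
  have ha₁ : RepWith @Etale a₁ := repWith_baseChange sqa ha
  let b : (yon S).obj V₁ ⟶ X₁ := (yon S).map i ≫ a₁
  have hb : RepWith @Etale b := repWith_etale_comp ha₁ i inferInstance
  have hbf : b ≫ f₁ = (yon S).map (i ≫ m₁) := by
    rw [Category.assoc, ha₁f, Functor.map_comp]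
  haveI : IsFinite (hb.rep.snd b).left := by
    let P := Limits.pullback (i ≫ m₁) (i ≫ m₁)
    have hP := IsPullback.of_hasPullback (i ≫ m₁) (i ≫ m₁)
    have : IsFinite (Limits.pullback.snd (i ≫ m₁) (i ≫ m₁)).left :=
      MorphismProperty.of_isPullback (P := @IsFinite) (hP.map (Over.forget S))
        (inferInstance : IsFinite (i ≫ m₁).left)
    have sqb := hb.rep.isPullback' b
    obtain ⟨c, hc1, hc2⟩ : ∃ c : hb.rep.pullback b ⟶ P,
        c ≫ Limits.pullback.fst _ _ = hb.rep.fst' b ∧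
          c ≫ Limits.pullback.snd _ _ = hb.rep.snd b :=
      ⟨Limits.pullback.lift (hb.rep.fst' b) (hb.rep.snd b) ((yon S).map_injective (by
        rw [(yon S).map_comp (hb.rep.fst' b), (yon S).map_comp (hb.rep.snd b), ← hbf]
        exact (Category.assoc _ _ _).symm.trans
          ((congrArg (· ≫ f₁) sqb.w).trans (Category.assoc _ _ _)))),
        pullback.lift_fst _ _ _, pullback.lift_snd _ _ _⟩
    have := SepPair.isClosedImmersion_pair hsep₁ hbf hbf sqb hP c hc1 hc2
    rw [← hc2, Over.comp_left]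
    infer_instance
  obtain ⟨Q, c, l, _, _, _, _, hl, _⟩ := AlgSpDecent.AffineQuot.exists_mono_quotient hb
  have hlr : Representable l := hX₁.representable_from_yon l
  have hlo : RepWith @IsOpenImmersion l :=
    AlgSpDecent.OpenScheme.repWith_isOpenImmersion_of_comp c hlr (hl ▸ hb)
  obtain ⟨τ, hτ⟩ := (yon S).map_surjective (l ≫ f₁)
  have hcτ : c ≫ τ = i ≫ m₁ := (yon S).map_injective (by
    rw [Functor.map_comp, hτ, reassoc_of% hl, hbf])
  have hfinc : IsFinite (c.left ≫ τ.left) := by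
    rw [← Over.comp_left, hcτ]
    infer_instance
  haveI : IsSeparated τ.left := by
    haveI : MorphismProperty.IsStableUnderComposition
        (@IsClosedImmersion : MorphismProperty Scheme.{u}) :=
      ⟨fun f g (_ : IsClosedImmersion f) (_ : IsClosedImmersion g) ↦
        inferInstanceAs (IsClosedImmersion (f ≫ g))⟩
    have h : IsSeparatedMor (l ≫ f₁) :=
      Proper.repWith_diagonal_comp _ (Proper.isSeparatedMor_of_mono_repWith l) hsep₁
    rw [← hτ] at h
    exact (AlgSp.isSeparatedMor_yon_map_iff τ).1 h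
  haveI : UniversallyClosed τ.left := UniversallyClosed.of_comp_surjective c.left τ.left
  have hq : (@LocallyQuasiFinite ⊓ @LocallyOfFiniteType : MorphismProperty Scheme.{u}) τ.left :=
    LocP.lqfLft.descends c.left τ.left ‹_› ‹_› ⟨inferInstance, inferInstance⟩
  haveI : LocallyQuasiFinite τ.left := hq.1
  haveI : LocallyOfFiniteType τ.left := hq.2
  haveI : IsProper τ.left := { }
  haveI : IsFinite τ.left := by
    first
      | exact IsFinite.of_isProper_of_locallyQuasiFinite τ.left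
      | infer_instance
  refine ⟨T₁, g₁, Q, τ, l, ‹_›, ‹_›, ‹_›, hτ.symm, hlo, ?_, ?_⟩
  · have h1 : AlgSp.IsUnivClosedMor (l ≫ f₁) := by
      rw [← hτ]
      exact Proper.isUnivClosedMor_of_repWith
        ((AlgSp.repWith_yon_map_iff _ τ).2 (inferInstance : UniversallyClosed τ.left))
    exact (Proper.isClosedMap_of_isUnivClosedMor hX₁
      (Proper.isUnivClosedMor_of_comp (IsAlgSpace.yon_obj Q) hX₁ (IsAlgSpace.yon_obj T₁).diag h1
        hsep₁)).isClosed_range
  · refine ⟨AlgSp.Points.ofScheme Q (c.left v), ?_⟩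
    have e1 : AlgSp.Points.ofPt (l ≫ pr) (c.left v) = AlgSp.Points.ofPt a x := by
      rw [← ofPt_yon_map_comp, reassoc_of% hl]
      show AlgSp.Points.ofPt (b ≫ pr) v = _
      rw [Category.assoc, ha₁p, ← Functor.map_comp_assoc, ofPt_yon_map_comp, hv]
    rw [← e1]
    exact (AlgSp.Points.map_ofPt _ _ _).trans (by rw [Category.id_comp])

end Groth.Agent.Lib.AlgSpMor.RelNorm
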