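import Groth.Agent.Lib.AlgSpMor.AffineDescent
import Groth.Agent.Lib.AlgSpMor.LocP
import Groth.Agent.Lib.AlgSpMor.RepBySp
import Groth.Agent.Lib.AlgSpMor.QC
import Groth.Prelude.Def_AlgSpMor5

/-!
# Relative normalisation of algebraic spaces: the universal property is etale local on the target
-/

set_option autoImplicit false
set_option linter.style.haveILetI false

universe u

open CategoryTheory CategoryTheory.Limits AlgebraicGeometry Opposite
open Groth.Agent.Lib.AlgSpace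

namespace Groth.Agent.Lib.AlgSpMor.RelNorm

open AlgSp (Sp yon Representable RepWith IsAlgSpace LocP IsIntegralMor IsRelNormalization)

variable {S : Scheme.{u}}

attribute [local simp] pullback.lift_fst pullback.lift_snd pullback.lift_fst_assoc
  pullback.lift_snd_assoc

/-- The universal property of the relative normalisation after base change along `ξ`. -/
def UnivAt {X Y X' : Sp S} (f : Y ⟶ X) (ν : X' ⟶ X) (f' : Y ⟶ X') {T : Sp S} (ξ : T ⟶ X) : Prop :=
  ∀ ⦃P N Z : Sp S⦄ (a : P ⟶ Y) (p : P ⟶ T) (_ : IsPullback a p f ξ) (b : N ⟶ X') (n : N ⟶ T)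
    (_ : IsPullback b n ν ξ) (j : P ⟶ N) (_ : j ≫ b = a ≫ f') (_ : j ≫ n = p),
    IsAlgSpace Z → ∀ (π : Z ⟶ T) (g : P ⟶ Z), IsIntegralMor π → g ≫ π = p →
      ∃! h : N ⟶ Z, j ≫ h = g ∧ h ≫ π = n

variable {X Y X' : Sp S} {f : Y ⟶ X} {ν : X' ⟶ X} {f' : Y ⟶ X'}

/-- Compatibility of the universal property with base change. -/
theorem univAt_baseChange_iff {T T' : Sp S} {ξ : T ⟶ X} {P N : Sp S} {a : P ⟶ Y} {p : P ⟶ T}
    (sqP : IsPullback a p f ξ) {b : N ⟶ X'} {n : N ⟶ T} (sqN : IsPullback b n ν ξ) {j : P ⟶ N}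
    (hj1 : j ≫ b = a ≫ f') (hj2 : j ≫ n = p) (k : T' ⟶ T) :
    UnivAt p n j k ↔ UnivAt f ν f' (k ≫ ξ) := by
  constructor
  · intro h P' N' Z a' p' sqP' b' n' sqN' j' h1 h2
    let a₁ := sqP.lift a' (p' ≫ k) (by rw [Category.assoc]; exact sqP'.w)
    let b₁ := sqN.lift b' (n' ≫ k) (by rw [Category.assoc]; exact sqN'.w)
    have ha₁ : a₁ ≫ a = a' := sqP.lift_fst _ _ _
    have hb₁ : b₁ ≫ b = b' := sqN.lift_fst _ _ _
    have sqP₁ : IsPullback a₁ p' p k :=
      IsPullback.of_right (h₁₁ := a₁) (by rw [ha₁]; exact sqP') (sqP.lift_snd _ _ _) sqP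
    have sqN₁ : IsPullback b₁ n' n k :=
      IsPullback.of_right (h₁₁ := b₁) (by rw [hb₁]; exact sqN') (sqN.lift_snd _ _ _) sqN
    refine h a₁ p' sqP₁ b₁ n' sqN₁ j' ?_ h2
    apply sqN.hom_ext
    · rw [Category.assoc, hb₁, h1, Category.assoc, hj1, reassoc_of% ha₁]
    · rw [Category.assoc, sqN₁.w, reassoc_of% h2, Category.assoc, hj2, sqP₁.w]
  · intro h P' N' Z a' p' sqP' b' n' sqN' j' h1 h2
    exact h (a' ≫ a) p' (sqP'.paste_horiz sqP) (b' ≫ b) n' (sqN'.paste_horiz sqN) j'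
      (by rw [reassoc_of% h1, hj1, Category.assoc]) h2

theorem isIntegralMor_baseChange {Z Z' T T' : Sp S} {π : Z ⟶ T} {k : T' ⟶ T} {fst : Z' ⟶ Z}
    {π' : Z' ⟶ T'} (sq : IsPullback fst π' π k) (h : IsIntegralMor π) : IsIntegralMor π' := by
  rw [AffineDescent.isIntegralMor_iff] at h ⊢
  exact repWith_baseChange sq h

theorem isRelNormalization_of_univAt_id (hfac : f' ≫ ν = f) (hν : IsIntegralMor ν)
    (h : UnivAt f ν f' (𝟙 X)) : IsRelNormalization f ν f' :=
  ⟨hfac, hν, fun _ hZ π g hπ w => h (𝟙 Y) f IsPullback.of_id_fst (𝟙 X') ν IsPullback.of_id_fst f'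
    (by simp) hfac hZ π g hπ w⟩

theorem univAt_id_of_isRelNormalization (h : IsRelNormalization f ν f') : UnivAt f ν f' (𝟙 X) := by
  intro P N Z a p sqP b n sqN j h1 h2 hZ π g hπ w
  haveI : IsIso a := sqP.isIso_fst_of_isIso
  haveI : IsIso b := sqN.isIso_fst_of_isIso
  have hpa : p = a ≫ f := by simpa using sqP.w.symm
  have hnb : n = b ≫ ν := by simpa using sqN.w.symm
  obtain ⟨k, ⟨hk1, hk2⟩, hk⟩ := h.2.2 hZ π (inv a ≫ g) hπ (by rw [Category.assoc, w, hpa]; simp)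
  refine ⟨b ≫ k, ⟨by rw [reassoc_of% h1, hk1, IsIso.hom_inv_id_assoc],
    by rw [Category.assoc, hk2, hnb]⟩, fun k' hk' => ?_⟩
  rw [← IsIso.inv_comp_eq]
  refine hk _ ⟨?_, ?_⟩
  · rw [← cancel_epi a, IsIso.hom_inv_id_assoc, ← reassoc_of% h1, IsIso.hom_inv_id_assoc]
    exact hk'.1
  · rw [Category.assoc, hk'.2, hnb, IsIso.inv_hom_id_assoc]

theorem IsRelNormalization.univAt_id (h : IsRelNormalization f ν f') : UnivAt f ν f' (𝟙 X) :=
  univAt_id_of_isRelNormalization h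

/-- Charts on all affine etale refinements of which the universal property holds. -/
structure Good (f : Y ⟶ X) (ν : X' ⟶ X) (f' : Y ⟶ X') {T : Over S} (ξ : (yon S).obj T ⟶ X) :
    Prop where
  affine : IsAffine T.left
  etale : RepWith @Etale ξ
  univ : ∀ ⦃T' : Over S⦄, IsAffine T'.left → ∀ (k : T' ⟶ T), Etale k.left →
    UnivAt f ν f' ((yon S).map k ≫ ξ)

variable {Z : Sp S} {π : Z ⟶ X} {g : Y ⟶ Z}

/-- The universal map on one chart. -/
theorem existsUnique_on_chart (hX : IsAlgSpace X) (hfac : f' ≫ ν = f) (hZ : IsAlgSpace Z)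
    (hπ : IsIntegralMor π) (hg : g ≫ π = f) {T : Over S} {ξ : (yon S).obj T ⟶ X}
    (hu : UnivAt f ν f' ξ) :
    ∃! H : pullback ν ξ ⟶ Z,
      pullback.lift (pullback.fst f ξ ≫ f') (pullback.snd f ξ)
          (by rw [Category.assoc, hfac, pullback.condition]) ≫ H = pullback.fst f ξ ≫ g ∧
        H ≫ π = pullback.snd ν ξ ≫ ξ := by
  have sqZ := IsPullback.of_hasPullback π ξ
  let gT := sqZ.lift (pullback.fst f ξ ≫ g) (pullback.snd f ξ)
    (by rw [Category.assoc, hg, pullback.condition])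
  have hgT1 : gT ≫ pullback.fst π ξ = pullback.fst f ξ ≫ g := sqZ.lift_fst _ _ _
  have hgT2 : gT ≫ pullback.snd π ξ = pullback.snd f ξ := sqZ.lift_snd _ _ _
  obtain ⟨h, ⟨h1, h2⟩, hu'⟩ := hu _ _ (IsPullback.of_hasPullback f ξ) _ _
    (IsPullback.of_hasPullback ν ξ) _ (pullback.lift_fst _ _ _) (pullback.lift_snd _ _ _)
    (isAlgSpace_of_isPullback sqZ hX.diag hZ (IsAlgSpace.yon_obj T)) _ gT
    (isIntegralMor_baseChange sqZ hπ) hgT2
  refine ⟨h ≫ pullback.fst π ξ, ⟨by rw [reassoc_of% h1, hgT1],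
    by rw [Category.assoc, pullback.condition, reassoc_of% h2]⟩, fun H ⟨hH1, hH2⟩ => ?_⟩
  have := hu' (sqZ.lift H (pullback.snd ν ξ) hH2) ⟨?_, sqZ.lift_snd _ _ _⟩
  · rw [← this, sqZ.lift_fst]
  · apply sqZ.hom_ext
    · rw [Category.assoc, sqZ.lift_fst, hH1, hgT1]
    · rw [Category.assoc, sqZ.lift_snd, hgT2, pullback.lift_snd]

/-- The universal property glues along good charts. -/
theorem existsUnique_of_good (hX : IsAlgSpace X) (hfac : f' ≫ ν = f)
    (hcov : ∀ x : AlgSp.Points X, ∃ (T : Over S) (ξ : (yon S).obj T ⟶ X),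
      Good f ν f' ξ ∧ x ∈ Set.range (AlgSp.Points.ofPt ξ))
    (hZ : IsAlgSpace Z) (hπ : IsIntegralMor π) (hg : g ≫ π = f) :
    ∃! h : X' ⟶ Z, f' ≫ h = g ∧ h ≫ π = ν := by
  have key := fun (T : Over S) (ξ : (yon S).obj T ⟶ X) (hξ : Good f ν f' ξ) =>
    existsUnique_on_chart hX hfac hZ hπ hg
      (show UnivAt f ν f' ξ by
        have h := hξ.univ hξ.affine (𝟙 T) (inferInstanceAs (Etale (𝟙 T.left)))
        rwa [CategoryTheory.Functor.map_id, Category.id_comp] at h)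
  choose H hH hHu using key
  -- the maps on two charts agree
  have L : ∀ (T₁ T₂ : Over S) (ξ₁ : (yon S).obj T₁ ⟶ X) (ξ₂ : (yon S).obj T₂ ⟶ X)
      (h₁ : Good f ν f' ξ₁) (h₂ : Good f ν f' ξ₂) (B : Over S)
      (b₁ : (yon S).obj B ⟶ pullback ν ξ₁) (b₂ : (yon S).obj B ⟶ pullback ν ξ₂),
      b₁ ≫ pullback.fst ν ξ₁ = b₂ ≫ pullback.fst ν ξ₂ →
      b₁ ≫ H T₁ ξ₁ h₁ = b₂ ≫ H T₂ ξ₂ h₂ := by
    intro T₁ T₂ ξ₁ ξ₂ h₁ h₂ B b₁ b₂ e
    obtain ⟨R, r₁, r₂, sqR⟩ := exists_isPullback_yon hX.diag ξ₁ ξ₂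
    haveI : Etale r₁.left := repWith_property h₂.etale sqR.flip
    haveI : Etale r₂.left := repWith_property h₁.etale sqR
    obtain ⟨r, hr⟩ := (yon S).map_surjective (sqR.lift (b₁ ≫ pullback.snd ν ξ₁)
      (b₂ ≫ pullback.snd ν ξ₂) (by
        rw [Category.assoc, Category.assoc, ← pullback.condition, ← pullback.condition,
          reassoc_of% e]))
    refine hom_ext_of_family (fun O : R.left.affineOpens => Topo.opensOver (r.left ⁻¹ᵁ O.1))
      (fun O => Topo.opensOverι _) (ofArrows_mem_J _ _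
        (fun O => inferInstanceAs (Flat (r.left ⁻¹ᵁ O.1).ι))
        (fun O => inferInstanceAs (LocallyOfFinitePresentation (r.left ⁻¹ᵁ O.1).ι))
        (fun x => by
          obtain ⟨O, hO, hx, -⟩ :=
            exists_isAffineOpen_mem_and_subset (U := ⊤) (Set.mem_univ (r.left x))
          exact ⟨⟨O, hO⟩, ⟨x, hx⟩, rfl⟩)) fun O => ?_
    let V := Topo.opensOver O.1
    haveI hV : IsAffine V.left := O.2
    let ι : V ⟶ R := Topo.opensOverι O.1
    let k₁ := ι ≫ r₁
    let k₂ := ι ≫ r₂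
    haveI : Etale k₁.left := by
      rw [Over.comp_left]; exact inferInstanceAs (Etale (O.1.ι ≫ r₁.left))
    have ek : (yon S).map k₁ ≫ ξ₁ = (yon S).map k₂ ≫ ξ₂ := by
      simp only [k₁, k₂, Functor.map_comp, Category.assoc, sqR.w]
    let ξ := (yon S).map k₁ ≫ ξ₁
    obtain ⟨HO, -, hHO⟩ := existsUnique_on_chart hX hfac hZ hπ hg
      (h₁.univ hV k₁ ‹Etale k₁.left›)
    let rO : Topo.opensOver (r.left ⁻¹ᵁ O.1) ⟶ V := Over.homMk (r.left ∣_ O.1) (by
      change (r.left ∣_ O.1) ≫ O.1.ι ≫ R.hom = (r.left ⁻¹ᵁ O.1).ι ≫ B.hom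
      rw [morphismRestrict_ι_assoc, Over.w])
    have hrO : rO ≫ ι = Topo.opensOverι (r.left ⁻¹ᵁ O.1) ≫ r :=
      Over.OverMorphism.ext (morphismRestrict_ι r.left O.1)
    let m₁ : pullback ν ξ ⟶ pullback ν ξ₁ := pullback.lift (pullback.fst ν ξ)
      (pullback.snd ν ξ ≫ (yon S).map k₁) (by rw [pullback.condition, Category.assoc])
    let m₂ : pullback ν ξ ⟶ pullback ν ξ₂ := pullback.lift (pullback.fst ν ξ)
      (pullback.snd ν ξ ≫ (yon S).map k₂) (by rw [pullback.condition, Category.assoc, ← ek])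
    have hm₁ : m₁ ≫ H T₁ ξ₁ h₁ = HO := by
      refine hHO _ ⟨?_, ?_⟩
      · rw [← Category.assoc]
        have : pullback.lift (pullback.fst f ξ ≫ f') (pullback.snd f ξ)
            (by rw [Category.assoc, hfac, pullback.condition]) ≫ m₁ =
            pullback.lift (pullback.fst f ξ) (pullback.snd f ξ ≫ (yon S).map k₁)
              (by rw [pullback.condition, Category.assoc]) ≫
            pullback.lift (pullback.fst f ξ₁ ≫ f') (pullback.snd f ξ₁)
              (by rw [Category.assoc, hfac, pullback.condition]) := by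
          apply pullback.hom_ext <;> simp [m₁]
        rw [this, Category.assoc, (hH T₁ ξ₁ h₁).1, pullback.lift_fst_assoc]
      · rw [Category.assoc, (hH T₁ ξ₁ h₁).2, pullback.lift_snd_assoc, Category.assoc]
    have hm₂ : m₂ ≫ H T₂ ξ₂ h₂ = HO := by
      refine hHO _ ⟨?_, ?_⟩
      · rw [← Category.assoc]
        have : pullback.lift (pullback.fst f ξ ≫ f') (pullback.snd f ξ)
            (by rw [Category.assoc, hfac, pullback.condition]) ≫ m₂ =
            pullback.lift (pullback.fst f ξ) (pullback.snd f ξ ≫ (yon S).map k₂)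
              (by rw [pullback.condition, Category.assoc, ← ek]) ≫
            pullback.lift (pullback.fst f ξ₂ ≫ f') (pullback.snd f ξ₂)
              (by rw [Category.assoc, hfac, pullback.condition]) := by
          apply pullback.hom_ext <;> simp [m₂]
        rw [this, Category.assoc, (hH T₂ ξ₂ h₂).1, pullback.lift_fst_assoc]
      · rw [Category.assoc, (hH T₂ ξ₂ h₂).2, pullback.lift_snd_assoc, Category.assoc, ← ek]
    have w₁ : (yon S).map rO ≫ (yon S).map k₁ =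
        (yon S).map (Topo.opensOverι (r.left ⁻¹ᵁ O.1)) ≫ b₁ ≫ pullback.snd ν ξ₁ := by
      rw [← Functor.map_comp, show rO ≫ k₁ = Topo.opensOverι (r.left ⁻¹ᵁ O.1) ≫ r ≫ r₁ by
        rw [← Category.assoc, hrO, Category.assoc], Functor.map_comp, Functor.map_comp, hr,
        sqR.lift_fst]
    have w₂ : (yon S).map rO ≫ (yon S).map k₂ =
        (yon S).map (Topo.opensOverι (r.left ⁻¹ᵁ O.1)) ≫ b₂ ≫ pullback.snd ν ξ₂ := by
      rw [← Functor.map_comp, show rO ≫ k₂ = Topo.opensOverι (r.left ⁻¹ᵁ O.1) ≫ r ≫ r₂ by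
        rw [← Category.assoc, hrO, Category.assoc], Functor.map_comp, Functor.map_comp, hr,
        sqR.lift_snd]
    let bO : (yon S).obj (Topo.opensOver (r.left ⁻¹ᵁ O.1)) ⟶ pullback ν ξ :=
      pullback.lift ((yon S).map (Topo.opensOverι _) ≫ b₁ ≫ pullback.fst ν ξ₁) ((yon S).map rO) (by
        simp only [ξ, reassoc_of% w₁, Category.assoc, pullback.condition])
    have e₁ : (yon S).map (Topo.opensOverι (r.left ⁻¹ᵁ O.1)) ≫ b₁ = bO ≫ m₁ := by
      apply pullback.hom_ext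
      · simp [bO, m₁]
      · simp [bO, m₁, w₁]
    have e₂ : (yon S).map (Topo.opensOverι (r.left ⁻¹ᵁ O.1)) ≫ b₂ = bO ≫ m₂ := by
      apply pullback.hom_ext
      · simp [bO, m₂, e]
      · simp [bO, m₂, w₂]
    rw [reassoc_of% e₁, reassoc_of% e₂, hm₁, hm₂]
  -- charts through a map from a scheme
  have cover : ∀ (A : Over S) (x : (yon S).obj A ⟶ X), ∀ t : A.left,
      ∃ (T : Over S) (ξ : (yon S).obj T ⟶ X) (_ : Good f ν f' ξ) (A' : Over S) (p : A' ⟶ A)
        (q : A' ⟶ T), (yon S).map p ≫ x = (yon S).map q ≫ ξ ∧ Etale p.left ∧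
          t ∈ Set.range p.left := by
    intro A x t
    obtain ⟨T, ξ, hξ, s, hs⟩ := hcov (AlgSp.Points.ofPt x t)
    obtain ⟨A', p, q, sq⟩ := exists_isPullback_yon hX.diag x ξ
    obtain ⟨w, hw, -⟩ := (ofPt_eq_ofPt_iff_of_isPullback sq t s).1 hs.symm
    exact ⟨T, ξ, hξ, A', p, q, sq.w, repWith_property hξ.etale sq.flip, w, hw⟩
  choose T ξ hξ A' p q w hp hsurj using cover
  have hmem : ∀ (A : Over S) (x : (yon S).obj A ⟶ X),
      Sieve.ofArrows (A' A x) (p A x) ∈ AlgSp.J S A := fun A x =>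
    ofArrows_mem_J _ _ (fun t => haveI := hp A x t; inferInstance)
      (fun t => haveI := hp A x t; inferInstance) (fun t => ⟨t, hsurj A x t⟩)
  let b : ∀ (A : Over S) (a : (yon S).obj A ⟶ X') (t : A.left),
      (yon S).obj (A' A (a ≫ ν) t) ⟶ pullback ν (ξ A (a ≫ ν) t) := fun A a t =>
    pullback.lift ((yon S).map (p A (a ≫ ν) t) ≫ a) ((yon S).map (q A (a ≫ ν) t))
      (by rw [Category.assoc]; exact w A (a ≫ ν) t)
  have ex : ∀ (A : Over S) (a : (yon S).obj A ⟶ X'), ∃ z : (yon S).obj A ⟶ Z,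
      ∀ (T₁ : Over S) (ξ₁ : (yon S).obj T₁ ⟶ X) (h₁ : Good f ν f' ξ₁) (B : Over S) (k : B ⟶ A)
        (b₁ : (yon S).obj B ⟶ pullback ν ξ₁), b₁ ≫ pullback.fst ν ξ₁ = (yon S).map k ≫ a →
        (yon S).map k ≫ z = b₁ ≫ H T₁ ξ₁ h₁ := by
    intro A a
    obtain ⟨z, hz, -⟩ := exists_desc_of_family (A' A (a ≫ ν)) (p A (a ≫ ν)) (hmem A (a ≫ ν))
      (fun t => b A a t ≫ H _ _ (hξ A (a ≫ ν) t)) (fun i j W gi gj e => by
        rw [← Category.assoc, ← Category.assoc]
        refine L _ _ _ _ _ _ W _ _ ?_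
        simp only [b, Category.assoc, pullback.lift_fst, ← Functor.map_comp_assoc, e])
    refine ⟨z, fun T₁ ξ₁ h₁ B k b₁ hb₁ => ?_⟩
    let C : ↥A.left → Over S := fun t => Limits.pullback k (p A (a ≫ ν) t)
    refine hom_ext_of_family C (fun t => pullback.fst k (p A (a ≫ ν) t)) (ofArrows_mem_J _ _
      (fun t => ?_) (fun t => ?_) (fun x => ?_)) fun t => ?_
    · haveI := hp A (a ≫ ν) t
      exact MorphismProperty.of_isPullback (P := @Flat.{u})
        ((IsPullback.of_hasPullback k _).map (Over.forget S)).flip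
        (inferInstanceAs (Flat (p A (a ≫ ν) t).left))
    · haveI := hp A (a ≫ ν) t
      exact MorphismProperty.of_isPullback (P := @LocallyOfFinitePresentation.{u})
        ((IsPullback.of_hasPullback k _).map (Over.forget S)).flip
        (inferInstanceAs (LocallyOfFinitePresentation (p A (a ≫ ν) t).left))
    · obtain ⟨y, hy⟩ := hsurj A (a ≫ ν) (k.left x)
      obtain ⟨o, ho, -⟩ := Scheme.exists_preimage_of_isPullback
        ((IsPullback.of_hasPullback k (p A (a ≫ ν) (k.left x))).map (Over.forget S)) x y hy.symm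
      exact ⟨k.left x, o, ho⟩
    · rw [← Functor.map_comp_assoc, pullback.condition, Functor.map_comp_assoc, hz,
        ← Category.assoc, ← Category.assoc]
      refine L _ _ _ _ _ _ _ _ _ ?_
      simp only [b, Category.assoc, pullback.lift_fst, hb₁, ← Functor.map_comp_assoc,
        pullback.condition]
  choose φ hφ using ex
  have hφb : ∀ (A : Over S) (a : (yon S).obj A ⟶ X') (t : A.left),
      (yon S).map (p A (a ≫ ν) t) ≫ φ A a = b A a t ≫ H _ _ (hξ A (a ≫ ν) t) :=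
    fun A a t => hφ A a _ _ _ _ _ _ (pullback.lift_fst _ _ _)
  have nat : ∀ {A B : Over S} (k : B ⟶ A) (a : (yon S).obj A ⟶ X'),
      φ B ((yon S).map k ≫ a) = (yon S).map k ≫ φ A a := by
    intro A B k a
    refine hom_ext_of_family _ _ (hmem B (((yon S).map k ≫ a) ≫ ν)) fun t => ?_
    rw [hφb, ← Functor.map_comp_assoc]
    refine (hφ A a _ _ _ _ _ _ ?_).symm
    simp only [b, pullback.lift_fst, Functor.map_comp_assoc]
  refine ⟨homMkYon φ nat, ⟨hom_ext fun A y => ?_, hom_ext fun A a => ?_⟩, fun h' ⟨h1, h2⟩ =>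
    hom_ext fun A a => ?_⟩
  · rw [← Category.assoc, comp_homMkYon]
    refine hom_ext_of_family _ _ (hmem A ((y ≫ f') ≫ ν)) fun t => ?_
    rw [hφb]
    let t' := pullback.lift (f := f) (g := ξ A ((y ≫ f') ≫ ν) t)
      ((yon S).map (p A ((y ≫ f') ≫ ν) t) ≫ y) ((yon S).map (q A ((y ≫ f') ≫ ν) t))
      (by rw [← w, ← hfac]; simp only [Category.assoc])
    have : b A (y ≫ f') t = t' ≫ pullback.lift (pullback.fst f _ ≫ f') (pullback.snd f _)
        ((Category.assoc _ _ _).trans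
          ((congrArg (pullback.fst f _ ≫ ·) hfac).trans pullback.condition)) := by
      apply pullback.hom_ext <;> simp [b, t']
    rw [this]; refine ((Category.assoc _ _ _).trans (congrArg (_ ≫ ·) (hH _ _ _).1)).trans ?_
    simp [t']
  · rw [← Category.assoc, comp_homMkYon]
    refine hom_ext_of_family _ _ (hmem A (a ≫ ν)) fun t => ?_
    rw [reassoc_of% (hφb A a t), (hH _ _ _).2, w]
    simp [b]
  · rw [comp_homMkYon]
    refine hom_ext_of_family _ _ (hmem A (a ≫ ν)) fun t => ?_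
    rw [hφb, ← hHu _ _ (hξ A (a ≫ ν) t) (pullback.fst ν _ ≫ h') ⟨?_, ?_⟩]
    · simp [b]
    · rw [pullback.lift_fst_assoc, Category.assoc, h1]
    · rw [Category.assoc, h2, pullback.condition]

theorem isRelNormalization_of_good (hX : IsAlgSpace X) (hfac : f' ≫ ν = f) (hν : IsIntegralMor ν)
    (hcov : ∀ x : AlgSp.Points X, ∃ (T : Over S) (ξ : (yon S).obj T ⟶ X),
      Good f ν f' ξ ∧ x ∈ Set.range (AlgSp.Points.ofPt ξ)) : IsRelNormalization f ν f' :=
  ⟨hfac, hν, fun _ hZ _ _ hπ hg => existsUnique_of_good hX hfac hcov hZ hπ hg⟩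

end Groth.Agent.Lib.AlgSpMor.RelNorm
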