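import Groth.Agent.Lib.AlgSpMor.RelNorm.Exists

/-!
# The relative normalisation of algebraic spaces
-/

set_option autoImplicit false
set_option linter.style.haveILetI false

universe u

open CategoryTheory CategoryTheory.Limits AlgebraicGeometry Opposite
open Groth.Agent.Lib.AlgSpace

namespace Groth.Agent.Lib.AlgSpMor.RelNorm

open AlgSp (Sp yon Representable RepWith IsAlgSpace LocP IsIntegralMor IsRelNormalization)

variable {S : Scheme.{u}}

/-- Representability with an effective property can be tested on affine opens of an etale atlas. -/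
theorem repWith_of_cover_opens (P : MorphismProperty Scheme.{u}) [P.IsStableUnderBaseChange]
    [IsZariskiLocalAtTarget P] [P.IsLocalAtTarget Scheme.fppfPrecoverage]
    (heff : ∀ ⦃A B : Scheme.{u}⦄ (p : A ⟶ B), fppfCover p → ∀ D : Desc.SchDD p, P D.obj.hom →
      ∃ (U : Over B) (q : D.obj.left ⟶ U.left), Groth.Agent.Lib.FFDesc.IsDescended D U q)
    {X Y : Sp S} (hY : Representable (Limits.diag Y))
    {f : X ⟶ Y} {U : Over S} {p : (yon S).obj U ⟶ Y} (hp : RepWith @Etale p)
    (hps : RepWith @Surjective p)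
    (h : ∀ O : U.left.affineOpens, ∃ (V : Over S) (v : V ⟶ Topo.opensOver O.1)
      (c : (yon S).obj V ⟶ X),
        IsPullback c ((yon S).map v) f ((yon S).map (Topo.opensOverι O.1) ≫ p) ∧ P v.left) :
    RepWith P f := by
  choose V v c sqi hv using h
  have sqP := IsPullback.of_hasPullback f p
  have sqi' : ∀ O : U.left.affineOpens, IsPullback
      (sqP.lift (c O) ((yon S).map (v O) ≫ (yon S).map (Topo.opensOverι O.1))
        (by rw [Category.assoc]; exact (sqi O).w)) ((yon S).map (v O)) (pullback.snd f p)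
      ((yon S).map (Topo.opensOverι O.1)) := fun O ↦
    IsPullback.of_right (h₁₁ := sqP.lift (c O) ((yon S).map (v O) ≫ (yon S).map (Topo.opensOverι O.1))
      (by rw [Category.assoc]; exact (sqi O).w)) (by rw [sqP.lift_fst]; exact sqi O)
      (sqP.lift_snd _ _ _) sqP
  obtain ⟨b, G, t, ht, hpb, sqb⟩ := RepDescent.exists_isPullback_sigma sqi'
  let W := fun O : U.left.affineOpens ↦ Topo.opensOver O.1
  haveI : Etale t.left := by
    refine (IsZariskiLocalAtSource.iff_of_openCover (P := @Etale)
      (sigmaOpenCover fun O ↦ (W O).left)).2 fun O ↦ ?_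
    show Etale ((sigmaOverι W O).left ≫ t.left)
    rw [← Over.comp_left, ht]
    exact inferInstanceAs (Etale O.1.ι)
  haveI : Surjective t.left := ⟨fun x ↦ by
    obtain ⟨O, hO, hx, -⟩ := exists_isAffineOpen_mem_and_subset (U := ⊤) (Set.mem_univ x)
    refine ⟨(sigmaOverι W ⟨O, hO⟩).left ⟨x, hx⟩, ?_⟩
    rw [← Scheme.Hom.comp_apply, ← Over.comp_left, ht]
    rfl⟩
  have hG : P G.left := IsZariskiLocalAtTarget.of_openCover (P := P)
    (sigmaOpenCover fun O ↦ (W O).left) fun O ↦ by
      show P (pullback.snd G.left (sigmaOverι W O).left)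
      rw [← (IsPullback.of_hasPullback _ _).isoIsPullback_hom_snd _ _ (hpb O)]
      exact (MorphismProperty.cancel_left_of_respectsIso P _ _).2 (hv O)
  have hsnd : RepWith P (pullback.snd f p) :=
    RepDescent.repWith_of_cover _ heff (IsAlgSpace.yon_obj U).diag
      ((AlgSp.repWith_yon_map_iff _ t).2 ‹Etale t.left›)
      ((AlgSp.repWith_yon_map_iff _ t).2 ‹Surjective t.left›) sqb
      ((AlgSp.repWith_yon_map_iff _ G).2 hG)
  exact RepDescent.repWith_of_cover _ heff hY hp hps sqP hsnd

variable {X Y : Sp S} {f : Y ⟶ X}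

/-- The map from a chart to the normalisation. -/
noncomputable def chartMap (hX : IsAlgSpace X) (C : Chart f) : (yon S).obj C.N ⟶ normSp f :=
  ofFam (famOfPoint hX C (𝟙 C.N))

theorem famOfPoint_res (hX : IsAlgSpace X) (C : Chart f) {T : Over S} (n : T ⟶ C.N) :
    (famOfPoint hX C (𝟙 C.N)).res n = famOfPoint hX C n := by
  have hx : ((famOfPoint hX C (𝟙 C.N)).res n).x = (yon S).map (n ≫ C.ν) ≫ C.b := by
    show (yon S).map n ≫ (yon S).map (𝟙 C.N ≫ C.ν) ≫ C.b = _
    simp
  refine (eq_famOfPoint hX C _ (n ≫ C.ν) hx (by simp [hx])).trans ?_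
  congr 1
  have h : (yon S).map (𝟙 C.N) ≫ (famOfPoint hX C (𝟙 C.N)).x =
      (yon S).map (𝟙 C.N ≫ C.ν) ≫ C.b := by simp [famOfPoint]
  refine ((Fam.s_congr _ C ((Category.id_comp n).trans (Category.comp_id n).symm)
    (congrArg (n ≫ ·) (Category.id_comp C.ν).symm) (by simp [famOfPoint]) (by simp [famOfPoint])).trans
    ((famOfPoint hX C (𝟙 C.N)).natA C C.N (𝟙 C.N) (𝟙 C.N ≫ C.ν) h T n (by simp [famOfPoint]))).trans ?_
  rw [famOfPoint_s_self hX C (𝟙 C.N)]
  exact Category.comp_id n

theorem toFam_map_chartMap (hX : IsAlgSpace X) (C : Chart f) {T : Over S} (n : T ⟶ C.N) :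
    toFam ((yon S).map n ≫ chartMap hX C) = famOfPoint hX C n := by
  rw [toFam_map, chartMap, toFam_ofFam, famOfPoint_res]

theorem isPullback_chartMap (hX : IsAlgSpace X) (C : Chart f) :
    IsPullback (chartMap hX C) ((yon S).map C.ν) (normProj f) C.b := by
  refine isPullback_of_yon ?_ (fun T c c' h1 h2 => ?_) (fun T a b' h => ?_)
  · rw [chartMap, comp_normProj, toFam_ofFam]
    show (yon S).map (𝟙 C.N ≫ C.ν) ≫ C.b = _
    rw [Category.id_comp]
  · obtain ⟨n, rfl⟩ := (yon S).map_surjective c
    obtain ⟨n', rfl⟩ := (yon S).map_surjective c'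
    have h2' : n ≫ C.ν = n' ≫ C.ν := (yon S).map_injective (by simpa using h2)
    have h1' := congrArg toFam h1
    rw [toFam_map_chartMap, toFam_map_chartMap] at h1'
    have key : ∀ (G : Fam f T), famOfPoint hX C n = G → ∀ h₁ h₂,
        (famOfPoint hX C n).s C T (𝟙 T) (n ≫ C.ν) h₁ = G.s C T (𝟙 T) (n' ≫ C.ν) h₂ := by
      intro G hG h₁ h₂
      subst hG
      exact Fam.s_congr _ C rfl h2' _ _
    have := key _ h1' (by simp [famOfPoint]) (by simp [famOfPoint])
    rw [famOfPoint_s_self, famOfPoint_s_self] at this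
    rw [this]
  · obtain ⟨v, rfl⟩ := (yon S).map_surjective b'
    rw [comp_normProj] at h
    have h' : (yon S).map (𝟙 T) ≫ (toFam a).x = (yon S).map v ≫ C.b := by simp [h]
    refine ⟨(yon S).map ((toFam a).s C T (𝟙 T) v h'), toFam_injective ?_, ?_⟩
    · rw [toFam_map_chartMap]
      exact (eq_famOfPoint hX C (toFam a) v h h').symm
    · rw [← Functor.map_comp, (toFam a).hover]

/-- The family of a point of the source. -/
noncomputable def famOfSource {T : Over S} (y : (yon S).obj T ⟶ Y) : Fam f T where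
  x := y ≫ f
  s C A p v h := (yon S).preimage
    (pullback.lift ((yon S).map p ≫ y) ((yon S).map v) (by rw [Category.assoc]; exact h) ≫ C.g)
  hover C A p v h := (yon S).map_injective (by
    rw [Functor.map_comp, Functor.map_preimage, Category.assoc, C.g_comp, pullback.lift_snd])
  natA C A p v h A' q h' := (yon S).map_injective (by
    rw [Functor.map_preimage]
    refine Eq.trans ?_ ((yon S).map_comp q _).symm
    rw [Functor.map_preimage, ← Category.assoc ((yon S).map q)]
    congr 1
    apply pullback.hom_ext <;> simp [pullback.lift_fst, pullback.lift_snd])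
  natC C C' φ A p v h h' := (yon S).map_injective (by
    rw [Functor.map_preimage]
    refine Eq.trans ?_ ((yon S).map_comp _ _).symm
    rw [Functor.map_preimage]
    refine Eq.trans ?_ (Category.assoc _ _ _).symm
    rw [φ.hg]
    refine Eq.trans ?_ (Category.assoc _ _ _)
    congr 1
    apply pullback.hom_ext <;> simp [pullback.lift_fst, pullback.lift_snd,
      pullback.lift_snd_assoc])

theorem ofFam_famOfSource_map {T T' : Over S} (q : T' ⟶ T) (y : (yon S).obj T ⟶ Y) :
    ofFam (famOfSource (f := f) ((yon S).map q ≫ y)) =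
      (yon S).map q ≫ ofFam (famOfSource y) := toFam_injective (by
    rw [toFam_map, toFam_ofFam, toFam_ofFam]
    refine Fam.ext' (Category.assoc _ _ _) fun C A p v h h' => (yon S).map_injective ?_
    show (yon S).map ((yon S).preimage _) = (yon S).map ((yon S).preimage _)
    rw [Functor.map_preimage, Functor.map_preimage]
    congr 1)

/-- The map from the source to the normalisation. -/
noncomputable def toNorm (f : Y ⟶ X) : Y ⟶ normSp f :=
  homMkYon (fun _ y => ofFam (famOfSource y)) (fun q y => ofFam_famOfSource_map q y)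

theorem toFam_comp_toNorm {T : Over S} (y : (yon S).obj T ⟶ Y) :
    toFam (y ≫ toNorm f) = famOfSource y :=
  (congrArg toFam (comp_homMkYon _ (fun q y => ofFam_famOfSource_map (f := f) q y) y)).trans
    (toFam_ofFam _)

theorem toNorm_normProj : toNorm f ≫ normProj f = f :=
  hom_ext fun T y => by
    rw [← Category.assoc, comp_normProj, toFam_comp_toNorm]
    rfl

theorem g_chartMap (hX : IsAlgSpace X) (C : Chart f) :
    C.g ≫ chartMap hX C = pullback.fst f C.b ≫ toNorm f := by
  refine hom_ext fun T a => toFam_injective ?_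
  obtain ⟨n, hn⟩ := (yon S).map_surjective (a ≫ C.g)
  rw [← Category.assoc, ← hn, toFam_map_chartMap, ← Category.assoc, toFam_comp_toNorm]
  have hx : (famOfSource (f := f) (a ≫ pullback.fst f C.b)).x =
      (yon S).map (n ≫ C.ν) ≫ C.b := by
    show (a ≫ pullback.fst f C.b) ≫ f = _
    rw [Category.assoc, pullback.condition, Functor.map_comp, hn, Category.assoc a, C.g_comp,
      Category.assoc]
  refine Eq.trans ?_ (eq_famOfPoint hX C _ (n ≫ C.ν) hx (by simp [hx])).symm
  congr 1
  apply (yon S).map_injective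
  show _ = (yon S).map ((yon S).preimage _)
  rw [Functor.map_preimage]
  refine hn.trans ?_
  congr 1
  apply pullback.hom_ext
  · simp [pullback.lift_fst]
  · rw [pullback.lift_snd, Functor.map_comp, hn, Category.assoc, C.g_comp]

section

variable (hX : IsAlgSpace X) (hY : IsAlgSpace Y) (hqc : AlgSp.IsQuasiCompactMor f)
  (hqs : AlgSp.IsQuasiSeparatedMor f)

include hX hY hqc hqs

theorem repWith_normProj : RepWith @IsIntegralHom (normProj f) := by
  haveI := AffineDescent.isLocalAtTarget_isIntegralHom.{u}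
  haveI : IsZariskiLocalAtTarget (@IsIntegralHom : MorphismProperty Scheme.{u}) :=
    @HasAffineProperty.instIsZariskiLocalAtTarget _ _ IsIntegralHom.hasAffineProperty
  obtain ⟨U, p, hp, hps⟩ := hX.atlas
  refine repWith_of_cover_opens _ AffineDescent.effective_isIntegralHom hX.diag hp hps fun O => ?_
  have he := repWith_etale_comp hp (Topo.opensOverι O.1) (inferInstanceAs (Etale O.1.ι))
  obtain ⟨N, ν, g, hν, hstr⟩ := exists_chart_data hX hY hqc hqs (V := Topo.opensOver O.1) O.2 he
  exact ⟨N, ν, _, isPullback_chartMap hX ⟨_, _, he, N, ν, hν, g, hstr⟩, hν⟩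

theorem str_normProj : Str f (normProj f) (toNorm f) := by
  refine Str.of_cover hX toNorm_normProj
    (AffineDescent.isIntegralMor_iff.2 (repWith_normProj hX hY hqc hqs)) fun x => ?_
  obtain ⟨V, b, hV, hb, hx⟩ := exists_affine_chart hX x
  obtain ⟨N, ν, g, hν, hstr⟩ := exists_chart_data hX hY hqc hqs hV hb
  let C : Chart f := ⟨V, b, hb, N, ν, hν, g, hstr⟩
  have sq := isPullback_chartMap hX C
  refine ⟨V, b, hb, hx, hstr.of_iso sq.isoPullback ?_ sq.isoPullback_hom_snd⟩
  apply pullback.hom_ext
  · rw [Category.assoc, IsPullback.isoPullback_hom_fst, pullback.lift_fst]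
    exact g_chartMap hX C
  · rw [Category.assoc, IsPullback.isoPullback_hom_snd, pullback.lift_snd]
    exact C.g_comp

/-- Existence of the relative normalisation, stable under smooth base change. -/
theorem exists_str : ∃ (X' : Sp S) (ν : X' ⟶ X) (f' : Y ⟶ X'), IsAlgSpace X' ∧ Str f ν f' :=
  ⟨normSp f, normProj f, toNorm f,
    isAlgSpace_of_representable (repWith_normProj hX hY hqc hqs).1 hX,
    str_normProj hX hY hqc hqs⟩

/-- Any relative normalisation is stable under smooth base change. -/
theorem str_of_isRelNormalization {X' : Sp S} (hX' : IsAlgSpace X') {ν : X' ⟶ X} {f' : Y ⟶ X'}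
    (h : IsRelNormalization f ν f') : Str f ν f' := by
  obtain ⟨X₀, ν₀, f₀, hX₀, h₀⟩ := exists_str hX hY hqc hqs
  obtain ⟨e, h1, h2⟩ := exists_iso_of_isRelNormalization hX₀ hX' (h₀.isRelNormalization hX) h
  exact h₀.of_iso e h1 h2

end

end Groth.Agent.Lib.AlgSpMor.RelNorm
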