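import Groth.Agent.Lib.AlgSpMor.RelNorm.ClopenPiece
import Groth.Agent.Lib.AlgSpDecent.Core
import Groth.Agent.Lib.AlgSpace.OpenSubExists
import Groth.Prelude.Def_AlgSpDec

/-!
# The normalisation over the quasi-finite locus
-/

set_option autoImplicit false
set_option linter.style.haveILetI false

universe u

open CategoryTheory CategoryTheory.Limits AlgebraicGeometry Opposite
open Groth.Agent.Lib.AlgSpace

namespace Groth.Agent.Lib.AlgSpMor.RelNorm

open AlgSp (Sp yon Representable RepWith IsAlgSpace LocP IsIntegralMor IsRelNormalization Points)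

variable {S : Scheme.{u}}

/-- Quasi-finite at a point, as used in statements. -/
def QfAt : ∀ (U V : Scheme.{u}), (U ⟶ V) → ↥U → Prop := fun U _ h u =>
  ∃ W : U.Opens, u ∈ W ∧ LocallyQuasiFinite (W.ι ≫ h) ∧ LocallyOfFiniteType (W.ι ≫ h)

variable {X Y Y' : Sp S} {f : X ⟶ Y} {ν : Y' ⟶ Y} {f' : X ⟶ Y'}

/-- An etale chart of the normalisation around a quasi-finite point. -/
theorem exists_qf_chart (hX : IsAlgSpace X) (hY : IsAlgSpace Y) (hY' : IsAlgSpace Y')
    (hft : LocP @LocallyOfFiniteType f) (hqc : AlgSp.IsQuasiCompactMor f)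
    (hsep : AlgSp.IsSeparatedMor f) (hn : IsRelNormalization f ν f') {x : Points X}
    (hx : AlgSp.HasAtMor QfAt f x) :
    ∃ (K T₁ : Over S) (k : (yon S).obj K ⟶ Y') (c : (yon S).obj K ⟶ X)
      (b₁ : (yon S).obj T₁ ⟶ Y) (η : K ⟶ T₁), RepWith @Etale k ∧ RepWith @Etale b₁ ∧
      IsFinite η.left ∧ c ≫ f = (yon S).map η ≫ b₁ ∧
      IsPullback c (𝟙 ((yon S).obj K)) f' k ∧ x ∈ Set.range (Points.ofPt c) := by
  obtain ⟨U₀, V₀, a, b, h, u, ha, hb, w, rfl, W, hu, hq, -⟩ := hx
  haveI : LocallyOfFiniteType h.left := hft a b h ha hb w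
  obtain ⟨O, hO, huO, -⟩ := exists_isAffineOpen_mem_and_subset (U := ⊤) (Set.mem_univ (h.left u))
  obtain ⟨Uo, hUo, huo, hUW⟩ := exists_isAffineOpen_mem_and_subset
    (U := W ⊓ h.left ⁻¹ᵁ O) (show u ∈ W ⊓ h.left ⁻¹ᵁ O from ⟨hu, huO⟩)
  have hUW' : Uo ≤ W := fun z hz => (hUW hz).1
  let U : Over S := Topo.opensOver Uo
  let ι : U ⟶ U₀ := Topo.opensOverι Uo
  let T : Over S := Topo.opensOver O
  let κ : T ⟶ V₀ := Topo.opensOverι O
  haveI : IsAffine U.left := hUo
  haveI : IsAffine T.left := hO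
  haveI : IsOpenImmersion κ.left := inferInstanceAs (IsOpenImmersion O.ι)
  haveI : IsOpenImmersion ι.left := inferInstanceAs (IsOpenImmersion Uo.ι)
  have hr : Set.range (ι ≫ h).left ⊆ Set.range κ.left := by
    rintro _ ⟨z, rfl⟩
    exact O.range_ι.symm.subset (hUW z.2).2
  let m : U ⟶ T := Over.homMk (IsOpenImmersion.lift κ.left (ι ≫ h).left hr) (by
    rw [← Over.w κ, IsOpenImmersion.lift_fac_assoc, Over.w])
  have hmκ : m ≫ κ = ι ≫ h := Over.OverMorphism.ext (IsOpenImmersion.lift_fac _ _ _)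
  have hmκ' : m.left ≫ κ.left = ι.left ≫ h.left := congrArg Over.Hom.left hmκ
  haveI : LocallyQuasiFinite (ι.left ≫ h.left) := by
    haveI := hq
    have e : ι.left ≫ h.left = U₀.left.homOfLE hUW' ≫ W.ι ≫ h.left := by
      rw [Scheme.homOfLE_ι_assoc]
      rfl
    rw [e]
    infer_instance
  haveI : LocallyQuasiFinite (m.left ≫ κ.left) := by rw [hmκ']; infer_instance
  haveI : LocallyQuasiFinite m.left := LocallyQuasiFinite.of_comp m.left κ.left
  haveI : LocallyOfFiniteType (m.left ≫ κ.left) := by rw [hmκ']; infer_instance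
  haveI : LocallyOfFiniteType m.left := locallyOfFiniteType_of_comp m.left κ.left
  let bT : (yon S).obj T ⟶ Y := (yon S).map κ ≫ b
  have hbT : RepWith @Etale bT := repWith_etale_comp hb κ inferInstance
  have sqX := IsPullback.of_hasPullback f bT
  have hXT : IsAlgSpace (pullback f bT) :=
    isAlgSpace_of_isPullback sqX hY.diag hX (IsAlgSpace.yon_obj T)
  let aT : (yon S).obj U ⟶ pullback f bT := pullback.lift ((yon S).map ι ≫ a) ((yon S).map m)
    (by rw [Category.assoc, w, ← Functor.map_comp_assoc, ← hmκ, Functor.map_comp_assoc])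
  have haT1 : aT ≫ pullback.fst f bT = (yon S).map ι ≫ a := pullback.lift_fst _ _ _
  have haT2 : aT ≫ pullback.snd f bT = (yon S).map m := pullback.lift_snd _ _ _
  have haT : RepWith @Etale aT := Proper.repWith_etale_of_comp hXT.diag
    (repWith_baseChange sqX.flip hbT) (by rw [haT1]; exact repWith_etale_comp ha ι inferInstance)
  obtain ⟨T₁, g₁, Q, τ, l, _, _, hτ, hlτ, hlo, hlc, hxl⟩ := exists_finite_clopen hXT
    (Sep.repWith_diagonal_baseChange sqX hsep) haT haT2 (⟨u, huo⟩ : ↥Uo) (m.left.quasiFiniteAt _)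
  haveI := hτ
  let b₁ : (yon S).obj T₁ ⟶ Y := (yon S).map g₁ ≫ bT
  have hb₁ : RepWith @Etale b₁ := repWith_etale_comp hbT g₁ inferInstance
  let pr := pullback.fst (pullback.snd f bT) ((yon S).map g₁) ≫ pullback.fst f bT
  have sqX₁ : IsPullback pr (pullback.snd (pullback.snd f bT) ((yon S).map g₁)) f b₁ :=
    (IsPullback.of_hasPullback _ _).paste_horiz sqX
  have hX₁ : IsAlgSpace (pullback (pullback.snd f bT) ((yon S).map g₁)) :=
    isAlgSpace_of_isPullback sqX₁ hY.diag hX (IsAlgSpace.yon_obj T₁)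
  obtain ⟨N, νN, q, sqN, hνN⟩ := repWith_exists (AffineDescent.isIntegralMor_iff.1 hn.2.1) b₁
  let g : pullback (pullback.snd f bT) ((yon S).map g₁) ⟶ (yon S).obj N :=
    sqN.lift (pr ≫ f') (pullback.snd _ _) (by rw [Category.assoc, hn.1, sqX₁.w])
  have hg1 : g ≫ q = pr ≫ f' := sqN.lift_fst _ _ _
  have hg2 : g ≫ (yon S).map νN = pullback.snd _ _ := sqN.lift_snd _ _ _
  have hqs : AlgSp.IsQuasiSeparatedMor f := repWith_mono hsep fun _ _ g (_ : IsClosedImmersion g) =>
    (inferInstance : QuasiCompact g)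
  have hS : Str (pullback.snd (pullback.snd f bT) ((yon S).map g₁)) ((yon S).map νN) g :=
    (str_of_isRelNormalization hY hX hqc hqs hY' hn).baseChange hY (IsAlgSpace.yon_obj T₁)
      (locP_smooth_of_etale hb₁) sqX₁ sqN hg1 hg2
  obtain ⟨U₁, ι₁, e, hι₁, he, sqU⟩ := exists_clopen_iso hX₁ hνN
    (hS.isRelNormalization (IsAlgSpace.yon_obj T₁)) hlo hlc hlτ
  haveI := he
  haveI := hι₁
  have sqg : IsPullback pr g f' q :=
    IsPullback.of_bot (by rw [hg2, hn.1]; exact sqX₁) hg1.symm sqN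
  have sqk : IsPullback (l ≫ pr) ((yon S).map e) f' ((yon S).map ι₁ ≫ q) := sqU.paste_horiz sqg
  refine ⟨U₁, T₁, (yon S).map ι₁ ≫ q, (yon S).map (inv e) ≫ l ≫ pr, b₁, inv e ≫ τ,
    repWith_etale_comp (repWith_baseChange sqN.flip hb₁) ι₁ inferInstance, hb₁, ?_, ?_, ?_, ?_⟩
  · rw [Over.comp_left]
    haveI : IsIso (inv e).left := inferInstanceAs (IsIso ((Over.forget S).map (inv e)))
    infer_instance
  · rw [Category.assoc, Category.assoc, sqX₁.w, ← Category.assoc l, hlτ, Functor.map_comp,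
      Category.assoc]
  · exact sqk.of_iso ((yon S).mapIso (asIso e)) (Iso.refl _) (Iso.refl _) (Iso.refl _)
      (by simp [← Functor.map_comp_assoc]) (by simp) (by simp) (by simp)
  · obtain ⟨y, hy⟩ := hxl
    obtain ⟨z, rfl⟩ : ∃ z, Points.ofScheme Q z = y := ⟨_, Points.ofScheme_toScheme Q y⟩
    have hy' : Points.ofPt (l ≫ pullback.fst (pullback.snd f bT) ((yon S).map g₁)) z =
        Points.ofPt aT (⟨u, huo⟩ : ↥Uo) := by
      rw [← hy]
      exact ((Points.map_ofPt _ _ _).trans (by rw [Category.id_comp])).symm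
    refine ⟨e.left z, ?_⟩
    rw [← ofPt_yon_map_comp, ← Functor.map_comp_assoc, IsIso.hom_inv_id,
      CategoryTheory.Functor.map_id, Category.id_comp]
    calc Points.ofPt (l ≫ pr) z
        = Points.map (pullback.fst f bT)
            (Points.ofPt (l ≫ pullback.fst (pullback.snd f bT) ((yon S).map g₁)) z) := by
          rw [Points.map_ofPt, Category.assoc]
      _ = Points.ofPt a u := by
          rw [hy', Points.map_ofPt, haT1, ofPt_yon_map_comp]
          rfl

/-- The normalisation is an isomorphism over an open subspace whose preimage is the quasi-finite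
locus. -/
theorem exists_qf_open (hX : IsAlgSpace X) (hY : IsAlgSpace Y) (hY' : IsAlgSpace Y')
    (hft : LocP @LocallyOfFiniteType f) (hqc : AlgSp.IsQuasiCompactMor f)
    (hsep : AlgSp.IsSeparatedMor f) (hn : IsRelNormalization f ν f') :
    ∃ (U' : Sp S) (j : U' ⟶ Y'), IsAlgSpace U' ∧ RepWith @IsOpenImmersion j ∧
      ∀ (P : Sp S) (fst : P ⟶ X) (snd : P ⟶ U'), IsPullback fst snd f' j →
        IsIso snd ∧ Set.range (Points.map fst) = {x | AlgSp.HasAtMor QfAt f x} := by
  obtain ⟨U₀, a₀, -, ha₀s⟩ := hX.atlas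
  choose K T₁ k c b₁ η hk hb₁ hη hcf sqk hxc using
    fun i : {u : U₀.left // AlgSp.HasAtMor QfAt f (Points.ofPt a₀ u)} =>
      exists_qf_chart hX hY hY' hft hqc hsep hn i.2
  obtain ⟨U', j, hU', hj, hjr⟩ := exists_open_subspace hY'
    (isOpen_iUnion fun i => AlgSpDecent.Core.isOpen_range_ofPt (hk i))
  have hjm : Mono j := mono_of_repWith (P := @IsOpenImmersion)
    (fun _ _ g (_ : IsOpenImmersion g) ↦ (inferInstance : Mono g)) hj
  choose k' hk' using fun i => exists_lift_yon_of_range_subset hj (k i)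
    ((Set.subset_iUnion (fun i => Set.range (Points.ofPt (k i))) i).trans hjr.symm.subset)
  have hk'e : ∀ i, RepWith @Etale (k' i) := fun i => repWith_baseChange (isPullback_of_yon
    (by simp [hk']) (fun Z p q e _ ↦ by simpa using e) fun Z p z e ↦
      ⟨p, Category.comp_id p, by rw [← cancel_mono j, Category.assoc, hk', e]⟩ :
        IsPullback (𝟙 ((yon S).obj (K i))) (k' i) (k i) j) (hk i)
  refine ⟨U', j, hU', hj, fun P fst snd sq => ?_⟩
  let z : ∀ i, (yon S).obj (K i) ⟶ P := fun i => sq.lift (c i) (k' i)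
    (by rw [(sqk i).w, hk', Category.id_comp])
  have hz1 : ∀ i, z i ≫ fst = c i := fun i => sq.lift_fst _ _ _
  have hz2 : ∀ i, z i ≫ snd = k' i := fun i => sq.lift_snd _ _ _
  have sqz : ∀ i, IsPullback (z i) (𝟙 _) snd (k' i) := fun i =>
    IsPullback.of_right (by rw [hz1, hk']; exact sqk i) (by rw [hz2, Category.id_comp]) sq
  -- covering data
  have cover : ∀ (T : Over S) (ξ : (yon S).obj T ⟶ U'), ∃ (R : _ → Over S)
      (r : ∀ i, R i ⟶ T) (e : ∀ i, R i ⟶ K i), Sieve.ofArrows R r ∈ AlgSp.J S T ∧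
        ∀ i, (yon S).map (r i) ≫ ξ = (yon S).map (e i) ≫ k' i := by
    intro T ξ
    choose R r e sqR using fun i => exists_isPullback_yon hU'.diag ξ (k' i)
    have hre : ∀ i, Etale (r i).left := fun i => repWith_property (hk'e i) (sqR i).flip
    refine ⟨R, r, e, ofArrows_mem_J _ _ (fun i => ?_) (fun i => ?_) (fun t => ?_),
      fun i => (sqR i).w⟩
    · haveI := hre i; infer_instance
    · haveI := hre i; infer_instance
    · have hmem : Points.map j (Points.ofPt ξ t) ∈ ⋃ i, Set.range (Points.ofPt (k i)) :=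
        hjr.subset ⟨_, rfl⟩
      obtain ⟨i, s, hs⟩ := Set.mem_iUnion.1 hmem
      obtain ⟨y, hy, -⟩ := (ofPt_eq_ofPt_iff_of_isPullback (sqR i) t s).1
        (injective_map_of_mono j (by
          rw [← hs, Points.map_ofPt, hk']))
      exact ⟨i, y, hy⟩
  have mono : ∀ (T : Over S) (p p' : (yon S).obj T ⟶ P), p ≫ snd = p' ≫ snd → p = p' := by
    intro T p p' e
    obtain ⟨R, r, ee, hcov, hr⟩ := cover T (p ≫ snd)
    refine hom_ext_of_family R r hcov fun i => ?_
    have key : ∀ q : (yon S).obj T ⟶ P, q ≫ snd = p ≫ snd →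
        (yon S).map (r i) ≫ q = (yon S).map (ee i) ≫ z i := by
      intro q hq
      have h1 : ((yon S).map (r i) ≫ q) ≫ snd = (yon S).map (ee i) ≫ k' i := by
        rw [Category.assoc, hq, hr]
      have l1 := (sqz i).lift_fst _ _ h1
      have l2 := (sqz i).lift_snd _ _ h1
      rw [Category.comp_id] at l2
      rw [← l1, l2]
    rw [key p rfl, key p' e.symm]
  have surj : ∀ (T : Over S) (ξ : (yon S).obj T ⟶ U'), ∃ p, p ≫ snd = ξ := by
    intro T ξ
    obtain ⟨R, r, e, hcov, hr⟩ := cover T ξ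
    obtain ⟨p, hp, -⟩ := exists_desc_of_family R r hcov (fun i => (yon S).map (e i) ≫ z i)
      (fun i i' W gi gi' he => mono W _ _ (by
        simp only [Category.assoc, hz2, ← hr]
        rw [← Functor.map_comp_assoc, he, Functor.map_comp_assoc]))
    refine ⟨p, hom_ext_of_family R r hcov fun i => ?_⟩
    rw [reassoc_of% hp, hz2, hr]
  choose φ hφ using surj
  let inv' : U' ⟶ P := homMkYon φ fun {T T'} g p => mono T' _ _ (by
    rw [hφ, Category.assoc, hφ])
  have hinv : ∀ (T : Over S) (p : (yon S).obj T ⟶ U'), p ≫ inv' = φ T p := fun T p =>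
    comp_homMkYon _ _ p
  refine ⟨⟨inv', hom_ext fun T p => mono T _ _ ?_, hom_ext fun T p => ?_⟩, ?_⟩
  · rw [← Category.assoc p snd, hinv, hφ, Category.comp_id]
  · rw [← Category.assoc, hinv, hφ, Category.comp_id]
  ext x
  constructor
  · rintro ⟨y, rfl⟩
    have hmem : Points.map f' (Points.map fst y) ∈ ⋃ i, Set.range (Points.ofPt (k i)) := by
      refine hjr.subset ⟨Points.map snd y, ?_⟩
      rw [← Points.map_comp, ← Points.map_comp, sq.w]
    obtain ⟨i, s, hs⟩ := Set.mem_iUnion.1 hmem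
    have hs' : Points.map f' (Points.map fst y) = Points.map (k i) (Points.ofScheme (K i) s) := by
      rw [← hs]
      exact ((Points.map_ofPt _ _ _).trans (by rw [Category.id_comp])).symm
    obtain ⟨w', hw1, -⟩ := exists_of_isPullback (sqk i) _ _ hs'
    obtain ⟨v, rfl⟩ : ∃ v, Points.ofScheme (K i) v = w' := ⟨_, Points.ofScheme_toScheme _ _⟩
    refine ⟨K i, T₁ i, c i, b₁ i, η i, v, repWith_baseChange (sqk i).flip (hk i), hb₁ i, hcf i,
      ?_, ⊤, trivial, ?_, ?_⟩
    · rw [← hw1]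
      exact ((Points.map_ofPt _ _ _).trans (by rw [Category.id_comp])).symm
    · haveI := hη i; infer_instance
    · haveI := hη i; infer_instance
  · intro hx
    obtain ⟨u, rfl⟩ := surjective_ofPt ha₀s x
    obtain ⟨s, hs⟩ := hxc ⟨u, hx⟩
    refine ⟨Points.ofPt (z ⟨u, hx⟩) s, ?_⟩
    rw [Points.map_ofPt, hz1, hs]

end Groth.Agent.Lib.AlgSpMor.RelNorm
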