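import Groth.Agent.Lib.AlgSpMor.RelNorm.Main
import Groth.Agent.H56.GeomDescent
import Groth.Agent.S7179
import Groth.Prelude.Def_AlgSpSub

/-!
# The normalisation in a reduced space is reduced
-/

set_option autoImplicit false
set_option linter.style.haveILetI false

universe u

open CategoryTheory CategoryTheory.Limits AlgebraicGeometry Opposite
open Groth.Agent.Lib.AlgSpace

namespace Groth.Agent.Lib.AlgSpMor.RelNorm

open AlgSp (Sp yon Representable RepWith IsAlgSpace LocP IsIntegralMor IsRelNormalization)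

variable {S : Scheme.{u}}

/-- A morphism from a reduced scheme factors through the reduced subscheme. -/
theorem nilradical_le_ker {W N : Scheme.{u}} (c : W ⟶ N) [IsReduced W] :
    N.nilradical ≤ c.ker := by
  refine Scheme.IdealSheafData.le_ofIdeals_iff.2 fun U x hx => ?_
  obtain ⟨n, hn⟩ : x ∈ (⊥ : Ideal Γ(N, U)).radical := by
    simpa [Scheme.nilradical] using hx
  have hn' : x ^ n = 0 := by simpa using hn
  exact RingHom.mem_ker.2 (IsReduced.eq_zero (R := Γ(W, c ⁻¹ᵁ U)) _
    ⟨n, by rw [← map_pow, hn', map_zero]⟩)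

/-- A scheme with vanishing nilradical is reduced. -/
theorem isReduced_of_nilradical_eq_bot {N : Scheme.{u}} (h : N.nilradical = ⊥) : IsReduced N := by
  haveI : ∀ U, IsReduced ((N.openCoverOfIsOpenCover _ (iSup_affineOpens_eq_top N)).X U) := fun U => by
    haveI : IsAffine (U : N.affineOpens).1 := (U : N.affineOpens).2
    haveI : _root_.IsReduced Γ((U : N.affineOpens).1, ⊤) := by
      haveI : _root_.IsReduced Γ(N, (U : N.affineOpens).1) := by
        refine ⟨fun x hx => ?_⟩
        obtain ⟨n, hn⟩ := hx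
        have : x ∈ N.nilradical.ideal U := by
          simp only [Scheme.nilradical, Scheme.IdealSheafData.radical_ideal, Ideal.mem_radical_iff]
          exact ⟨n, by rw [hn]; exact zero_mem _⟩
        rw [h, Scheme.IdealSheafData.ideal_bot] at this
        exact Ideal.mem_bot.1 this
      exact isReduced_of_injective (U : N.affineOpens).1.topIso.hom.hom
        (ConcreteCategory.bijective_of_isIso (U : N.affineOpens).1.topIso.hom).1
    exact isReduced_of_isAffine_isReduced (U : N.affineOpens).1
  exact IsReduced.of_openCover N (N.openCoverOfIsOpenCover _ (iSup_affineOpens_eq_top N))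

/-- The normalisation in a reduced space is reduced. -/
theorem isReduced_of_str {U N : Over S} {P : Sp S} (hP : IsAlgSpace P) {p : P ⟶ (yon S).obj U}
    {ν : N ⟶ U} (hν : IsIntegralHom ν.left) {g : P ⟶ (yon S).obj N}
    (h : Str p ((yon S).map ν) g)
    (hred : ∀ ⦃W : Over S⦄ (c : (yon S).obj W ⟶ P), RepWith @Etale c → IsReduced W.left) :
    IsReduced N.left := by
  obtain ⟨W, c, hc, hcs⟩ := hP.atlas
  haveI := hred c hc
  obtain ⟨a, ha⟩ := (yon S).map_surjective (c ≫ g)
  let I := N.left.nilradical
  let M : Over S := Over.mk (I.subschemeι ≫ N.hom)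
  let i : M ⟶ N := Over.homMk I.subschemeι rfl
  haveI : Mono i.left := inferInstanceAs (Mono I.subschemeι)
  haveI : Mono i := Over.mono_of_mono_left i
  let a' : W ⟶ M := Over.homMk (a.left.toImage ≫
    Scheme.IdealSheafData.inclusion (nilradical_le_ker a.left)) (by
      change (a.left.toImage ≫ _) ≫ I.subschemeι ≫ N.hom = W.hom
      rw [Category.assoc, Scheme.IdealSheafData.inclusion_subschemeι_assoc,
        Scheme.Hom.toImage_imageι_assoc, Over.w])
  have hai : a' ≫ i = a := Over.OverMorphism.ext (by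
    change (a.left.toImage ≫ _) ≫ I.subschemeι = _
    rw [Category.assoc, Scheme.IdealSheafData.inclusion_subschemeι, Scheme.Hom.toImage_imageι])
  have sq := hc.rep.isPullback' c
  haveI := isLocallySurjective_of_etale hc hcs
  obtain ⟨g', hg'⟩ := exists_desc c sq ((yon S).map a') (by
    rw [← cancel_mono ((yon S).map i), Category.assoc, Category.assoc, ← Functor.map_comp, hai, ha,
      reassoc_of% sq.w])
  haveI : Epi c := (Sheaf.isLocallySurjective_iff_epi' (Type (u + 1)) c).1 inferInstance
  have hgi : g' ≫ (yon S).map i = g := by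
    rw [← cancel_epi c, reassoc_of% hg', ← Functor.map_comp, hai, ha]
  have hn := h.isRelNormalization (IsAlgSpace.yon_obj U)
  haveI := hν
  haveI : IsIntegralHom (i ≫ ν).left := inferInstanceAs (IsIntegralHom (I.subschemeι ≫ ν.left))
  obtain ⟨k₀, ⟨k1, k2⟩, -⟩ := hn.2.2 (IsAlgSpace.yon_obj M) ((yon S).map (i ≫ ν)) g'
    (AffineDescent.isIntegralMor_iff.2 ((AlgSp.repWith_yon_map_iff _ _).2 ‹_›))
    (by rw [Functor.map_comp, reassoc_of% hgi, hn.1])
  obtain ⟨k, rfl⟩ := (yon S).map_surjective k₀
  obtain ⟨_, -, huq⟩ := hn.2.2 (IsAlgSpace.yon_obj N) ((yon S).map ν) g hn.2.1 hn.1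
  have e : k ≫ i = 𝟙 N := (yon S).map_injective ((huq _ ⟨?_, ?_⟩).trans (huq _ ⟨?_, ?_⟩).symm)
  · haveI : IsIso i := ⟨k, by rw [← cancel_mono i, Category.assoc, e, Category.comp_id,
      Category.id_comp], e⟩
    haveI : IsIso I.subschemeι := inferInstanceAs (IsIso ((Over.forget S).map i))
    exact isReduced_of_nilradical_eq_bot (Scheme.isIso_subschemeι_iff_eq_bot I |>.1 inferInstance)
  · rw [Functor.map_comp, reassoc_of% k1, hgi]
  · rw [← Functor.map_comp, Category.assoc, Functor.map_comp]
    exact k2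
  · rw [CategoryTheory.Functor.map_id, Category.comp_id]
  · rw [CategoryTheory.Functor.map_id, Category.id_comp]

theorem isReducedSp_of_isRelNormalization {X Y X' : Sp S} (hX : IsAlgSpace X) (hY : IsAlgSpace Y)
    (hX' : IsAlgSpace X') {f : Y ⟶ X} {ν : X' ⟶ X} {f' : Y ⟶ X'}
    (hqc : AlgSp.IsQuasiCompactMor f) (hqs : AlgSp.IsQuasiSeparatedMor f)
    (hn : IsRelNormalization f ν f') (hr : AlgSp.IsReducedSp Y) : AlgSp.IsReducedSp X' := by
  have hstr := str_of_isRelNormalization hX hY hqc hqs hX' hn
  obtain ⟨U, p, hp, hps⟩ := hX.atlas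
  obtain ⟨N, νU, q, sqN, hνU⟩ := repWith_exists (AffineDescent.isIntegralMor_iff.1 hn.2.1) p
  refine ⟨N, q, repWith_baseChange sqN.flip hp, repWith_baseChange sqN.flip hps, ?_⟩
  have sqP := IsPullback.of_hasPullback f p
  have hS : Str (pullback.snd f p) ((yon S).map νU)
      (sqN.lift (pullback.fst f p ≫ f') (pullback.snd f p)
        (by rw [Category.assoc, hn.1, pullback.condition])) :=
    hstr.baseChange hX (IsAlgSpace.yon_obj U) (locP_smooth_of_etale hp) sqP sqN
      (IsPullback.lift_fst _ _ _ _) (IsPullback.lift_snd _ _ _ _)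
  refine isReduced_of_str (isAlgSpace_of_isPullback sqP hX.diag hY (IsAlgSpace.yon_obj U)) hνU hS
    fun W c hc => ?_
  obtain ⟨V, b, hb, hbs, hV⟩ := hr
  haveI : MorphismProperty.IsStableUnderComposition (@Etale : MorphismProperty Scheme.{u}) :=
    ⟨fun f g (_ : Etale f) (_ : Etale g) => inferInstanceAs (Etale (f ≫ g))⟩
  have hd : RepWith @Etale (c ≫ pullback.fst f p) :=
    repWith_comp hc (repWith_baseChange sqP.flip hp)
  obtain ⟨R, r₁, r₂, sqR⟩ := exists_isPullback_yon hY.diag (c ≫ pullback.fst f p) b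
  haveI : Etale r₁.left := repWith_property hb sqR.flip
  haveI : Surjective r₁.left := repWith_property hbs sqR.flip
  haveI : Etale r₂.left := repWith_property hd sqR
  haveI := hV
  haveI : IsReduced R.left := Groth.Agent.S7179.result r₂.left
  exact Groth.Agent.H56.GeomDescent.isReduced_of_flat_surjective r₁.left

end Groth.Agent.Lib.AlgSpMor.RelNorm
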