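import Groth.Agent.Lib.AlgSpMor.Fork
import Mathlib.AlgebraicGeometry.Normalization

/-!
# Relative normalisation of schemes: universal property, smooth base change, invariant functions
-/

set_option autoImplicit false
set_option linter.style.haveILetI false

universe u

open CategoryTheory CategoryTheory.Limits AlgebraicGeometry

namespace Groth.Agent.Lib.AlgSpMor.RelNorm.Sch

open Fork (IsFork)

/-- `W ⟶ N ⟶ T` is the relative normalisation of `T` in `W`. -/
structure SchNorm {W N T : Scheme.{u}} (m : W ⟶ T) (a : W ⟶ N) (b : N ⟶ T) : Prop where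
  fac : a ≫ b = m
  integral : IsIntegralHom b
  desc : ∀ {B : Scheme.{u}} (q : B ⟶ T) [IsIntegralHom q] (g : W ⟶ B), g ≫ q = m →
    ∃ h : N ⟶ B, a ≫ h = g ∧ h ≫ q = b
  ext : ∀ {B : Scheme.{u}} (q : B ⟶ T) [IsIntegralHom q] (h h' : N ⟶ B),
    h ≫ q = b → h' ≫ q = b → a ≫ h = a ≫ h' → h = h'

theorem schNorm_normalization {W T : Scheme.{u}} (m : W ⟶ T) [QuasiCompact m] [QuasiSeparated m] :
    SchNorm m m.toNormalization m.fromNormalization where
  fac := m.toNormalization_fromNormalization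
  integral := inferInstance
  desc q _ g h := ⟨m.normalizationDesc g q h.symm, m.toNormalization_normalizationDesc ..,
    m.normalizationDesc_comp ..⟩
  ext q _ h h' e e' e'' := Scheme.Hom.normalization.hom_ext m h h' q e'' e e'

theorem SchNorm.of_iso {W N T W' N' : Scheme.{u}} {m : W ⟶ T} {a : W ⟶ N} {b : N ⟶ T}
    (h : SchNorm m a b) (eW : W' ≅ W) (eN : N ≅ N') {m' : W' ⟶ T} {a' : W' ⟶ N'} {b' : N' ⟶ T}
    (hm : m' = eW.hom ≫ m) (ha : a' = eW.hom ≫ a ≫ eN.hom) (hb : b' = eN.inv ≫ b) :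
    SchNorm m' a' b' where
  fac := by simp [hm, ha, hb, h.fac]
  integral := by
    rw [hb]
    haveI := h.integral
    infer_instance
  desc q _ g hg := by
    obtain ⟨k, hk, hk'⟩ := h.desc q (eW.inv ≫ g) (by simp [hg, hm])
    exact ⟨eN.inv ≫ k, by simp [ha, hk], by simp [hb, hk']⟩
  ext q _ k k' e e' e'' := by
    rw [← cancel_epi eN.hom]
    refine h.ext q _ _ (by simp [e, hb]) (by simp [e', hb]) ?_
    rw [← cancel_epi eW.hom]
    simpa [ha] using e''

/-- Normalisation commutes with smooth base change. -/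
theorem schNorm_baseChange {W T W' T' N' : Scheme.{u}} {m : W ⟶ T} [QuasiCompact m]
    [QuasiSeparated m] {k : T' ⟶ T} [Smooth k] {σ : W' ⟶ W} {m' : W' ⟶ T'}
    (sqW : IsPullback σ m' m k) {τ : N' ⟶ m.normalization} {b' : N' ⟶ T'}
    (sqN : IsPullback τ b' m.fromNormalization k) {a' : W' ⟶ N'} (h1 : a' ≫ b' = m')
    (h2 : a' ≫ τ = σ ≫ m.toNormalization) : SchNorm m' a' b' := by
  let e := asIso (m.normalizationPullback k)
  refine (schNorm_normalization (pullback.snd m k)).of_iso sqW.isoPullback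
    (e ≪≫ sqN.isoPullback.symm) sqW.isoPullback_hom_snd.symm ?_ ?_
  · apply sqN.hom_ext
    · rw [h2, Iso.trans_hom, Iso.symm_hom, Category.assoc, Category.assoc, Category.assoc,
        IsPullback.isoPullback_inv_fst, asIso_hom,
        Scheme.Hom.toNormalization_normalizationPullback_fst, IsPullback.isoPullback_hom_fst_assoc]
    · rw [h1, Iso.trans_hom, Iso.symm_hom, Category.assoc, Category.assoc, Category.assoc,
        IsPullback.isoPullback_inv_snd, asIso_hom, Scheme.Hom.normalizationPullback_snd,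
        Scheme.Hom.toNormalization_fromNormalization, IsPullback.isoPullback_hom_snd]
  · rw [Iso.eq_inv_comp, Iso.trans_hom, Iso.symm_hom, Category.assoc,
      IsPullback.isoPullback_inv_snd, asIso_hom, Scheme.Hom.normalizationPullback_snd]

/-- An affine quotient of an affine scheme integral over an affine base is integral. -/
theorem isIntegralHom_of_injective {A N T : Scheme.{u}} [IsAffine A] [IsAffine N] [IsAffine T]
    {π : A ⟶ N} {ν : N ⟶ T} [IsIntegralHom (π ≫ ν)] (hπ : Function.Injective π.appTop.hom) :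
    IsIntegralHom ν := by
  rw [@HasAffineProperty.iff_of_isAffine _ _ IsIntegralHom.hasAffineProperty]
  refine ⟨inferInstance, ?_⟩
  change ν.appTop.hom.IsIntegral
  intro x
  have h : (π ≫ ν).appTop.hom.IsIntegralElem (π.appTop x) :=
    ((@HasAffineProperty.iff_of_isAffine _ _ IsIntegralHom.hasAffineProperty _ _ (π ≫ ν) _).1 ‹IsIntegralHom (π ≫ ν)›).2 _
  obtain ⟨p, hp, hx⟩ := h
  refine ⟨p, hp, hπ ?_⟩
  rw [map_zero, Polynomial.hom_eval₂, ← CommRingCat.hom_comp, ← Scheme.Hom.comp_appTop]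
  exact hx

/-- The universal property of the invariant part of the normalisation of the source of an atlas. -/
theorem univ_of_fork {W R T α β N : Scheme.{u}} [IsAffine T] [IsAffine α] [IsAffine N]
    {m : W ⟶ T} {n : R ⟶ T} {s t : R ⟶ W} (hs : s ≫ m = n) (ht : t ≫ m = n)
    {a : W ⟶ α} {b : α ⟶ T} (hα : SchNorm m a b) {c : R ⟶ β} {d : β ⟶ T} (hβ : SchNorm n c d)
    {p q : β ⟶ α} (hp : c ≫ p = s ≫ a) (hq : c ≫ q = t ≫ a) (hpb : p ≫ b = d) (hqb : q ≫ b = d)
    {π : α ⟶ N} (hπ : p ≫ π = q ≫ π) (hF : IsFork π p q) {ν : N ⟶ T} (hν : π ≫ ν = b)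
    {B : Scheme.{u}} (r : B ⟶ T) [IsIntegralHom r] (g : W ⟶ B) (hg : g ≫ r = m)
    (he : s ≫ g = t ≫ g) : ∃! h : N ⟶ B, (a ≫ π) ≫ h = g ∧ h ≫ r = ν := by
  haveI : IsAffine B := isAffine_of_isAffineHom r
  obtain ⟨hα', hα1, hα2⟩ := hα.desc r g hg
  have hpq : p ≫ hα' = q ≫ hα' := hβ.ext r _ _ (by rw [Category.assoc, hα2, hpb])
    (by rw [Category.assoc, hα2, hqb]) (by rw [reassoc_of% hp, reassoc_of% hq, hα1, he])
  obtain ⟨k, hk⟩ := hF.exists_desc hα' hpq
  refine ⟨k, ⟨by rw [Category.assoc, hk, hα1], hF.hom_ext (by rw [reassoc_of% hk, hα2, hν])⟩,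
    fun k' hk' => hF.hom_ext (hα.ext r _ _ (by rw [Category.assoc, hk'.2, hν])
      (by rw [hk, hα2]) ?_)⟩
  rw [hk, hα1, ← Category.assoc]
  exact hk'.1

/-- The invariant part of the normalisation of an atlas, with universal property stable under
smooth base change. -/
theorem exists_invariant_norm {W R T : Scheme.{u}} [IsAffine T] (m : W ⟶ T) (n : R ⟶ T)
    [QuasiCompact m] [QuasiSeparated m] [QuasiCompact n] [QuasiSeparated n] (s t : R ⟶ W)
    (hs : s ≫ m = n) (ht : t ≫ m = n) :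
    ∃ (N : Scheme.{u}) (w : W ⟶ N) (ν : N ⟶ T), IsAffine N ∧ IsIntegralHom ν ∧ w ≫ ν = m ∧
      s ≫ w = t ≫ w ∧
      ∀ ⦃T' W' R' N' : Scheme.{u}⦄ (k : T' ⟶ T) [Smooth k] [IsAffine T']
        (σ : W' ⟶ W) (m' : W' ⟶ T') (_ : IsPullback σ m' m k)
        (ρ : R' ⟶ R) (n' : R' ⟶ T') (_ : IsPullback ρ n' n k)
        (τ : N' ⟶ N) (ν' : N' ⟶ T') (_ : IsPullback τ ν' ν k)
        (s' t' : R' ⟶ W') (_ : s' ≫ σ = ρ ≫ s) (_ : s' ≫ m' = n') (_ : t' ≫ σ = ρ ≫ t)
        (_ : t' ≫ m' = n') (w' : W' ⟶ N') (_ : w' ≫ τ = σ ≫ w) (_ : w' ≫ ν' = m')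
        ⦃B : Scheme.{u}⦄ (r : B ⟶ T') [IsIntegralHom r] (g : W' ⟶ B) (_ : g ≫ r = m')
        (_ : s' ≫ g = t' ≫ g), ∃! h : N' ⟶ B, w' ≫ h = g ∧ h ≫ r = ν' := by
  let a := m.toNormalization
  let b := m.fromNormalization
  let c := n.toNormalization
  let d := n.fromNormalization
  haveI : IsAffine m.normalization := isAffine_of_isAffineHom b
  haveI : IsAffine n.normalization := isAffine_of_isAffineHom d
  let p : n.normalization ⟶ m.normalization :=
    n.normalizationDesc (s ≫ a) b (by simp [a, b, hs])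
  let q : n.normalization ⟶ m.normalization :=
    n.normalizationDesc (t ≫ a) b (by simp [a, b, ht])
  have hp : c ≫ p = s ≫ a := n.toNormalization_normalizationDesc ..
  have hq : c ≫ q = t ≫ a := n.toNormalization_normalizationDesc ..
  have hpb : p ≫ b = d := n.normalizationDesc_comp ..
  have hqb : q ≫ b = d := n.normalizationDesc_comp ..
  obtain ⟨N, π, hN, hπ, hF⟩ := Fork.exists_fork p q
  obtain ⟨ν, hν⟩ := hF.exists_desc b (hpb.trans hqb.symm)
  haveI : IsIntegralHom (π ≫ ν) := by rw [hν]; infer_instance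
  refine ⟨N, a ≫ π, ν, hN, isIntegralHom_of_injective hF.1, ?_, ?_, ?_⟩
  · rw [Category.assoc, hν]
    exact m.toNormalization_fromNormalization
  · rw [← Category.assoc, ← hp, ← Category.assoc t, ← hq, Category.assoc, Category.assoc, hπ]
  intro T' W' R' N' k _ _ σ m' sqW ρ n' sqR τ ν' sqN s' t' hs1 hs2 ht1 ht2 w' hw1 hw2 B r _ g hg he
  have sqA := IsPullback.of_hasPullback b k
  have sqB := IsPullback.of_hasPullback d k
  haveI : IsIntegralHom ν := isIntegralHom_of_injective hF.1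
  haveI : IsIntegralHom ν' := MorphismProperty.of_isPullback (P := @IsIntegralHom.{u}) sqN inferInstance
  haveI : IsAffine N' := isAffine_of_isAffineHom ν'
  haveI : IsAffine (pullback b k) := isAffine_of_isAffineHom (pullback.snd b k)
  let a' := sqA.lift (σ ≫ a) m' (by
    simp only [Category.assoc, a, b, Scheme.Hom.toNormalization_fromNormalization, sqW.w])
  let c' := sqB.lift (ρ ≫ c) n' (by
    simp only [Category.assoc, c, d, Scheme.Hom.toNormalization_fromNormalization, sqR.w])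
  have hα := schNorm_baseChange sqW sqA (a' := a') (sqA.lift_snd _ _ _) (sqA.lift_fst _ _ _)
  have hβ := schNorm_baseChange sqR sqB (a' := c') (sqB.lift_snd _ _ _) (sqB.lift_fst _ _ _)
  let p' := sqA.lift (pullback.fst d k ≫ p) (pullback.snd d k) (by rw [Category.assoc, hpb, sqB.w])
  let q' := sqA.lift (pullback.fst d k ≫ q) (pullback.snd d k) (by rw [Category.assoc, hqb, sqB.w])
  let π' : pullback b k ⟶ N' := sqN.lift (pullback.fst b k ≫ π) (pullback.snd b k)
    (by rw [Category.assoc, hν, sqA.w])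
  have hπ'ν : π' ≫ ν' = pullback.snd b k := sqN.lift_snd _ _ _
  have hπ'τ : π' ≫ τ = pullback.fst b k ≫ π := sqN.lift_fst _ _ _
  have hp'1 : p' ≫ pullback.fst b k = pullback.fst d k ≫ p := sqA.lift_fst _ _ _
  have hp'2 : p' ≫ pullback.snd b k = pullback.snd d k := sqA.lift_snd _ _ _
  have hq'1 : q' ≫ pullback.fst b k = pullback.fst d k ≫ q := sqA.lift_fst _ _ _
  have hq'2 : q' ≫ pullback.snd b k = pullback.snd d k := sqA.lift_snd _ _ _
  have ha'1 : a' ≫ pullback.fst b k = σ ≫ a := sqA.lift_fst _ _ _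
  have ha'2 : a' ≫ pullback.snd b k = m' := sqA.lift_snd _ _ _
  have hc'1 : c' ≫ pullback.fst d k = ρ ≫ c := sqB.lift_fst _ _ _
  have hc'2 : c' ≫ pullback.snd d k = n' := sqB.lift_snd _ _ _
  have hπ' : p' ≫ π' = q' ≫ π' := by
    apply sqN.hom_ext
    · simp only [Category.assoc, hπ'τ, reassoc_of% hp'1, reassoc_of% hq'1, hπ]
    · simp only [Category.assoc, hπ'ν, hp'2, hq'2]
  haveI : Flat τ := MorphismProperty.of_isPullback (P := @Flat.{u}) sqN.flip inferInstance
  have sqU : IsPullback (pullback.fst b k) π' π τ := by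
    refine IsPullback.of_bot ?_ ?_ sqN
    · rw [hν, hπ'ν]
      exact sqA
    · rw [hπ'τ]
  have sqR' : IsPullback (pullback.fst d k) (p' ≫ π') (p ≫ π) τ := by
    refine IsPullback.of_bot ?_ ?_ sqN
    · simp only [Category.assoc, hν, hpb, hπ'ν, hp'2]
      exact sqB
    · rw [Category.assoc, hπ'τ, reassoc_of% hp'1]
  have hF' := Fork.isFork_baseChange hπ hF sqU sqR' hp'1 rfl hq'1 hπ'.symm
  have e1 : c' ≫ p' = s' ≫ a' := by
    apply sqA.hom_ext
    · rw [Category.assoc, hp'1, reassoc_of% hc'1, hp, Category.assoc, ha'1, reassoc_of% hs1]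
    · rw [Category.assoc, hp'2, hc'2, Category.assoc, ha'2, hs2]
  have e2 : c' ≫ q' = t' ≫ a' := by
    apply sqA.hom_ext
    · rw [Category.assoc, hq'1, reassoc_of% hc'1, hq, Category.assoc, ha'1, reassoc_of% ht1]
    · rw [Category.assoc, hq'2, hc'2, Category.assoc, ha'2, ht2]
  have ew : a' ≫ π' = w' := by
    apply sqN.hom_ext
    · rw [Category.assoc, hπ'τ, reassoc_of% ha'1, hw1]
    · rw [Category.assoc, hπ'ν, ha'2, hw2]
  rw [← ew]
  exact univ_of_fork hs2 ht2 hα hβ e1 e2 hp'2 hq'2 hπ' hF' hπ'ν r g hg he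

end Groth.Agent.Lib.AlgSpMor.RelNorm.Sch
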